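import Groth.Agent.CohFinite.Serre
import Groth.Agent.CohQC.QuasiAffine
import Groth.Agent.QC.Coherent
import Groth.Agent.SuppZero.Basic
import Groth.Agent.ClSubLib.AnnIdeal
import Groth.Agent.S0458
import Groth.Prelude.Def_Curv2

/-!
Regularity along monomorphisms `F(-1) → F` and along complexes with small homology.
-/

set_option autoImplicit false
set_option linter.unusedSectionVars false
set_option linter.style.haveILetI false
set_option backward.isDefEq.respectTransparency false

universe u

open CategoryTheory CategoryTheory.Limits AlgebraicGeometry TopologicalSpace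

noncomputable section

namespace Groth.Agent.RegCx

variable {X : Scheme.{u}}

/-- Cohomology of a module supported on a closed Noetherian subset of dimension at most `e`. -/
theorem subsingleton_hh_of_supported [NoetherianSpace X] {Z : Set X} (hZ : IsClosed Z) (e : ℕ)
    (hdim : topologicalKrullDim Z ≤ e) (M : X.Modules)
    (hM : ∀ x ∉ Z, x ∉ CohB1.support M) (p : ℕ) (hp : e < p) : Subsingleton (Coh.HH X M p) := by
  let U : X.Opens := ⟨Zᶜ, hZ.isOpen_compl⟩
  refine Groth.Agent.FreeJ.subsingleton_H_of_support (X := X.toPresheafedSpace.carrier) (G := Coh.toAb M) U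
    (fun x hx => not_not.1 (hM x hx)) p fun N => ?_
  refine Groth.Agent.S0458.result (X := TopCat.of ((U : Set X)ᶜ : Set X)) e ?_ N p hp
  refine le_trans ?_ hdim
  exact (IsHomeomorph.topologicalKrullDim_eq _ (Homeomorph.setCongr (compl_compl Z)).isHomeomorph).le

variable {k : Type u} [Field k] {n : ℕ}

/-- Vanishing above the dimension of projective space, after twisting. -/
theorem hh_above (F : (CohB1.ProjSpace n k).Modules) (hF : Coh.IsQCoh F) (c : ℤ) (q : ℕ) (hq : n < q) :
    Subsingleton (Coh.HH (CohB1.ProjSpace n k) (CohB1.tensorMod F (Twist.twistProjSpace n k c)) q) := by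
  have : Coh.IsQCoh (CohB1.tensorMod F (Twist.twistProjSpace n k c)) :=
    TMul.isQCoh_tensor (CohFinite.isInvertible_twist n k c) (hF := hF)
  exact Groth.Agent.S0022.result n k _ q hq

set_option maxHeartbeats 2000000 in
lemma twist_twist (a b c : ℤ) (h : a + b = c) :
    Nonempty (CohB1.tensorMod (Twist.twistProjSpace n k a) (Twist.twistProjSpace n k b) ≅
      Twist.twistProjSpace n k c) := by
  obtain ⟨i⟩ := GrT.nonempty_tensor_iso (a := a) (b := b) (c := c) (CohB1.polyGrading n k) (CohFinite.cov_one n k) h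
  exact ⟨i⟩

lemma hh_twist_twist (F : (CohB1.ProjSpace n k).Modules) (a b c : ℤ) (h : a + b = c) (q : ℕ)
    (hv : Subsingleton (Coh.HH (CohB1.ProjSpace n k) (CohB1.tensorMod F (Twist.twistProjSpace n k c)) q)) :
    Subsingleton (Coh.HH (CohB1.ProjSpace n k) (CohB1.tensorMod (CohB1.tensorMod F (Twist.twistProjSpace n k a))
      (Twist.twistProjSpace n k b)) q) := by
  obtain ⟨e⟩ := twist_twist (k := k) (n := n) a b c h
  exact CohQC.hh_subsingleton_of_iso (TMul.assocIso _ _ _ ≪≫ PicGrp.tensorModIso (Iso.refl _) e).symm _ hv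

theorem cokernel_of_twist (F : (CohB1.ProjSpace n k).Modules) (hF : Coh.IsCoh F) (m : ℤ)
    (hreg : Curv2.IsMRegular k n F m) (ι : CohB1.tensorMod F (Twist.twistProjSpace n k (-1)) ⟶ F) [Mono ι] :
    Curv2.IsMRegular k n (cokernel ι) m := by
  intro i hi hin
  have hS : (ShortComplex.mk ι (cokernel.π ι) (cokernel.condition ι)).ShortExact :=
    { exact := ShortComplex.exact_cokernel ι, mono_f := ‹Mono ι›, epi_g := inferInstanceAs (Epi (cokernel.π ι)) }
  refine CohFinite.subsingleton_of_shortExact
    (CohFinite.shortExact_tmap (CohFinite.isInvertible_twist n k (m - i)) hS) i (hreg i hi hin) ?_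
  refine hh_twist_twist F (-1) (m - i) (m - ((i + 1 : ℕ) : ℤ)) (by push_cast; ring) (i + 1) ?_
  by_cases h : i + 1 ≤ n
  · exact hreg (i + 1) (by omega) h
  · exact hh_above F hF.1 _ (i + 1) (by omega)

variable (E : ChainComplex ((CohB1.ProjSpace n k).Modules) ℕ)

/-- The map from the cokernel onto the image of the next differential. -/
def toIm (s : ℕ) : cokernel (E.d (s + 1 + 1) (s + 1)) ⟶ Abelian.image (E.d (s + 1) s) :=
  cokernel.desc _ (Abelian.factorThruImage (E.d (s + 1) s))
    (by rw [← cancel_mono (Abelian.image.ι (E.d (s + 1) s)), Category.assoc, Abelian.image.fac, E.d_comp_d, zero_comp])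

instance epi_toIm (s : ℕ) : Epi (toIm E s) := by
  haveI : Epi (cokernel.π (E.d (s + 1 + 1) (s + 1)) ≫ toIm E s) := by
    rw [toIm, cokernel.π_desc]; infer_instance
  exact epi_of_epi (cokernel.π _) _

/-- Its kernel is the homology. -/
def kerToImIso (s : ℕ) : kernel (toIm E s) ≅ E.homology (s + 1) :=
  (kernelCompMono (toIm E s) (Abelian.image.ι (E.d (s + 1) s))).symm ≪≫
    kernelIsoOfEq (show toIm E s ≫ Abelian.image.ι _ = cokernel.desc _ (E.d (s + 1) s) (E.d_comp_d _ _ _) by
      rw [← cancel_epi (cokernel.π (E.d (s + 1 + 1) (s + 1))), toIm, cokernel.π_desc_assoc, cokernel.π_desc,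
        Abelian.image.fac]) ≪≫
    (E.sc' (s + 1 + 1) (s + 1) s).homologyIsoKernelDesc.symm ≪≫
    (E.homologyIsoSc' (s + 1 + 1) (s + 1) s (by simp) (by simp)).symm

theorem regular_of_complex (hcoh : ∀ s : ℕ, Coh.IsCoh (E.X s)) (d : ℤ)
    (hreg : ∀ s : ℕ, Curv2.IsMRegular k n (E.X s) (d + s))
    (hsupp : ∀ i : ℕ, 0 < i → topologicalKrullDim (CohB1.support (E.homology i)) ≤ 1) :
    ∀ (m q s : ℕ), n < q + m → 1 ≤ q →
      Subsingleton (Coh.HH (CohB1.ProjSpace n k)
          (CohB1.tensorMod (cokernel (E.d (s + 1) s)) (Twist.twistProjSpace n k (d + s - q))) q) ∧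
        Subsingleton (Coh.HH (CohB1.ProjSpace n k)
          (CohB1.tensorMod (Abelian.image (E.d (s + 1) s)) (Twist.twistProjSpace n k (d + s + 1 - q))) q) := by
  haveI : IsNoetherian (CohB1.ProjSpace n k) := CohFinite.isNoetherian_projSpace n k
  intro m
  induction m with
  | zero =>
    intro q s hq _
    exact ⟨hh_above _ (QC.isQCoh_cokernel (hcoh _).1 (hcoh _).1 _) _ q (by omega),
      hh_above _ (QC.isQCoh_kernel (hcoh _).1 (QC.isQCoh_cokernel (hcoh _).1 (hcoh _).1 _) _) _ q (by omega)⟩
  | succ m ih =>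
    have hcok : ∀ (q s : ℕ), n < q + (m + 1) → 1 ≤ q → Subsingleton (Coh.HH (CohB1.ProjSpace n k)
        (CohB1.tensorMod (cokernel (E.d (s + 1) s)) (Twist.twistProjSpace n k (d + s - q))) q) := by
      intro q s hq h1
      have hS : (ShortComplex.mk (Abelian.image.ι (E.d (s + 1) s)) (cokernel.π (E.d (s + 1) s))
          (kernel.condition _)).ShortExact :=
        { exact := ShortComplex.exact_of_f_is_kernel _ (kernelIsKernel _) }
      refine CohFinite.subsingleton_of_shortExact
        (CohFinite.shortExact_tmap (CohFinite.isInvertible_twist n k (d + s - q)) hS) q ?_ ?_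
      · by_cases hqn : q ≤ n
        · exact hreg s q h1 hqn
        · exact hh_above _ (hcoh s).1 _ q (by omega)
      · have h := (ih (q + 1) s (by omega) (by omega)).2
        rwa [show d + (s : ℤ) + 1 - ((q + 1 : ℕ) : ℤ) = d + s - q by push_cast; ring] at h
    intro q s hq h1
    refine ⟨hcok q s hq h1, ?_⟩
    have hS : (ShortComplex.mk (kernel.ι (toIm E s)) (toIm E s) (kernel.condition _)).ShortExact :=
      { exact := ShortComplex.exact_of_f_is_kernel _ (kernelIsKernel _) }
    refine CohFinite.subsingleton_of_shortExact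
      (CohFinite.shortExact_tmap (CohFinite.isInvertible_twist n k (d + s + 1 - q)) hS) q ?_ ?_
    · have h := hcok q (s + 1) hq h1
      rwa [show d + ((s + 1 : ℕ) : ℤ) - (q : ℤ) = d + s + 1 - q by push_cast; ring] at h
    · have hK : Coh.IsCoh (kernel (toIm E s)) :=
        QC.isCoh_kernel (QC.isCoh_cokernel (hcoh _).1 (hcoh _) _)
          (QC.isQCoh_kernel (hcoh _).1 (QC.isQCoh_cokernel (hcoh _).1 (hcoh _).1 _) _) _
      refine subsingleton_hh_of_supported (QC.isClosed_support hK.2) 1 ?_ _
        (fun x hx => SuppZero.notMem_support_tensorMod _ _ (CohFinite.isInvertible_twist n k _) hx) (q + 1) (by omega)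
      rw [ClSubLib.support_congr (kerToImIso E s)]
      exact le_trans (hsupp (s + 1) (by omega)) (le_of_eq Nat.cast_one.symm)

end Groth.Agent.RegCx
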