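import Groth.Agent.RegTilde.Mumford
import Groth.Agent.CohFinite.AmpleFinite

/-!
One step of a linear resolution of an `m`-regular coherent module on projective space.
-/

set_option autoImplicit false
set_option linter.unusedSectionVars false
set_option linter.style.haveILetI false
set_option backward.isDefEq.respectTransparency false

universe u

open CategoryTheory CategoryTheory.Limits AlgebraicGeometry TopologicalSpace Opposite
open Groth.Agent.QC (res resO res_res res_smul app_res)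
open Groth.Agent.RegKos Groth.Agent.Mumford

noncomputable section

namespace Groth.Agent.LinRes

section General

variable {X : Scheme.{u}}

attribute [local instance] Abelian.hasFiniteBiproducts

/-- Tensoring with an invertible module is faithful. -/
lemma eq_zero_of_tmap {M N L : X.Modules} (hL : PicF.IsInvertible L) (h : M ⟶ N)
    (h0 : CohFinite.tmap h L = 0) : h = 0 := by
  refine Scheme.Modules.hom_ext _ _ fun U => ?_
  ext m
  refine Groth.Agent.QC.section_eq_of_locally fun x hx => ?_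
  obtain ⟨V, hV, e, hxV, he⟩ := CohFinite.exists_gen_le hL hx
  refine ⟨V, hV, hxV, ?_⟩
  have h1 : TMul.tm (h.app V (res M hV m)) e = TMul.tm (0 : Γ(N, V)) e := by
    rw [TMul.zero_tm, ← CohFinite.tmap_tm, h0]
    rfl
  refine ((app_res h hV m).trans ((TMul.tm_bijective he V le_rfl).1 ?_)).trans (map_zero _).symm
  simpa only [Groth.Agent.QC.res_self] using h1

/-- A morphism out of a trivial module is zero if it kills the generator. -/
lemma eq_zero_of_gen {A B : X.Modules} (θ : A ≅ Coh.structureModule X) (φ : A ⟶ B)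
    (h : φ.app ⊤ (θ.inv.app ⊤ (1 : Γ(X, ⊤))) = 0) : φ = 0 := by
  rw [← cancel_epi θ.inv, comp_zero]
  refine Scheme.Modules.hom_ext _ _ fun U => ?_
  ext c
  show (θ.inv ≫ φ).app U c = 0
  have hc : (c : Γ(Coh.structureModule X, U)) =
      (show Γ(X, U) from c) • res (Coh.structureModule X) (le_top : U ≤ ⊤) (1 : Γ(X, ⊤)) := by
    refine (mul_one (show Γ(X, U) from c)).symm.trans ?_
    exact congrArg ((show Γ(X, U) from c) * ·) (map_one (X.presheaf.map (homOfLE (le_top : U ≤ ⊤)).op).hom).symm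
  rw [hc, TMul.app_smul, ← app_res]
  rw [show (θ.inv ≫ φ).app ⊤ (1 : Γ(X, ⊤)) = 0 from h, map_zero, smul_zero]

/-- The identity of a finite coproduct is a sum of projections followed by inclusions. -/
lemma exists_total {b : ℕ} (L : X.Modules) : ∃ π : Fin b → ((∐ fun _ : Fin b => L) ⟶ L),
    ∑ t, π t ≫ Sigma.ι (fun _ : Fin b => L) t = 𝟙 _ := by
  classical
  let E : Fin b → X.Modules := fun _ => L
  refine ⟨fun t => (biproduct.isoCoproduct E).inv ≫ biproduct.π E t, ?_⟩
  have h : ∀ t, Sigma.ι E t = biproduct.ι E t ≫ (biproduct.isoCoproduct E).hom := fun t => by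
    rw [← Iso.comp_inv_eq, biproduct.isoCoproduct_inv, colimit.ι_desc]
    rfl
  show ∑ t, ((biproduct.isoCoproduct E).inv ≫ biproduct.π E t) ≫ Sigma.ι E t = 𝟙 (∐ E)
  simp only [h, Category.assoc]
  rw [← Preadditive.comp_sum]
  simp only [← Category.assoc]
  rw [← Preadditive.sum_comp, biproduct.total, Category.id_comp, Iso.inv_hom_id]

/-- Vanishing for a twisted finite sum. -/
lemma hh_coprod {b : ℕ} (L M : X.Modules) (q : ℕ) (h : Subsingleton (Coh.HH X (CohB1.tensorMod L M) q)) :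
    Subsingleton (Coh.HH X (CohB1.tensorMod (∐ fun _ : Fin b => L) M) q) := by
  obtain ⟨π, hπ⟩ := exists_total (b := b) L
  refine CohFinite.subsingleton_of_split _ (fun _ : Fin b => CohB1.tensorMod L M)
    (fun j => CohFinite.tmap (Sigma.ι (fun _ : Fin b => L) j) M) (fun j => CohFinite.tmap (π j) M) ?_ q fun _ => h
  simp only [← CohFinite.tmap_comp]
  exact (CohFinite.tmap_sum _ _ _).symm.trans ((congrArg (fun ψ => CohFinite.tmap ψ M) hπ).trans (CohFinite.tmap_id _ _))

/-- Vanishing of the left term, in positive degrees. -/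
lemma hh_left {S : ShortComplex X.Modules} (hS : S.ShortExact) (q : ℕ)
    (h₃ : ∀ x : Coh.HH X S.X₃ q, ∃ y, Sheaf.H.map ((SheafOfModules.toSheaf X.ringCatSheaf).map S.g) q y = x)
    (h₂ : Subsingleton (Coh.HH X S.X₂ (q + 1))) : Subsingleton (Coh.HH X S.X₁ (q + 1)) := by
  refine subsingleton_of_forall_eq 0 fun x => ?_
  obtain ⟨y, hy⟩ := (CohFinite.map_f_eq_zero_iff (CohQC.seq_shortExact hS) q x).1 (h₂.elim _ _)
  rw [← hy]
  exact (CohFinite.δH_eq_zero_iff (CohQC.seq_shortExact hS) q y).2 (h₃ y)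

/-- Surjectivity in degree zero from surjectivity on global sections. -/
lemma h0_surj {M N : X.Modules} (φ : M ⟶ N) (h : ∀ z, ∃ w, φ.app ⊤ w = z) (y : Coh.HH X N 0) :
    ∃ x : Coh.HH X M 0, Sheaf.H.map ((SheafOfModules.toSheaf X.ringCatSheaf).map φ) 0 x = y := by
  have hT : IsTerminal (⊤ : X.Opens) := isTerminalTop
  obtain ⟨w, hw⟩ := h (Sheaf.H.equiv₀ (Coh.toAb N) hT y)
  refine ⟨(Sheaf.H.equiv₀ (Coh.toAb M) hT).symm w, (Sheaf.H.equiv₀ (Coh.toAb N) hT).injective ?_⟩
  rw [← Sheaf.H.equiv₀_naturality, AddEquiv.apply_symm_apply]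
  exact hw

variable {L L' : X.Modules} (η : CohB1.tensorMod L' L ≅ Coh.structureModule X) {F : X.Modules}

/-- The morphism `L → F` given by a global section of `F ⊗ L'`. -/
def secHom (g : Γ(CohB1.tensorMod F L', ⊤)) : L ⟶ F :=
  mulR g L ≫ TMul.commHom L (CohB1.tensorMod F L') ≫ Phi η F

lemma secHom_app (g : Γ(CohB1.tensorMod F L', ⊤)) {U : X.Opens} (t : Γ(L, U)) :
    (secHom η g).app U t = (Phi η F).app U (TMul.tm (res (CohB1.tensorMod F L') le_top g) t) :=
  congrArg ((Phi η F).app U) (TMul.commHom_tm t (res (CohB1.tensorMod F L') le_top g))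

lemma tmap_secHom (hL' : PicF.IsInvertible L') (g : Γ(CohB1.tensorMod F L', ⊤)) :
    CohFinite.tmap (secHom η g) L' =
      (TMul.commHom L L' ≫ η.hom) ≫ GrT.homOfSection (CohB1.tensorMod F L') g := by
  refine TMul.hom_ext fun U t s => Groth.Agent.QC.section_eq_of_locally fun x hx => ?_
  obtain ⟨V, hV, e, hxV, he⟩ := CohFinite.exists_gen_le hL' hx
  refine ⟨V, hV, hxV, ?_⟩
  rw [app_res, app_res, TMul.res_tm, CohFinite.tmap_tm, secHom_app]
  show _ = etaVal η ((TMul.commHom L L').app V (TMul.tm (res L hV t) (res L' hV s))) •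
    res (CohB1.tensorMod F L') le_top g
  rw [TMul.commHom_tm]
  obtain ⟨c, hc⟩ := (he V le_rfl).2 (res L' hV s)
  obtain ⟨f, hf⟩ := (TMul.tm_bijective he V le_rfl).2 (res (CohB1.tensorMod F L') le_top g)
  simp only [Groth.Agent.QC.res_self] at hc hf
  rw [← hc, ← hf, Phi_tm, TMul.tm_smul, TMul.smul_tm, TMul.smul_tm, etaVal_smul, mul_smul]

/-- The generator of `L ⊗ L'`. -/
def gen₀ : Γ(CohB1.tensorMod L L', ⊤) := (TMul.commIso L L' ≪≫ η).inv.app ⊤ (1 : Γ(X, ⊤))

lemma tmap_secHom_gen (hL' : PicF.IsInvertible L') (g : Γ(CohB1.tensorMod F L', ⊤)) :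
    (CohFinite.tmap (secHom η g) L').app ⊤ (gen₀ η) = g := by
  rw [tmap_secHom η hL' g]
  show (GrT.homOfSection (CohB1.tensorMod F L') g).app ⊤ ((TMul.commIso L L' ≪≫ η).hom.app ⊤
    ((TMul.commIso L L' ≪≫ η).inv.app ⊤ (1 : Γ(X, ⊤)))) = g
  rw [show (TMul.commIso L L' ≪≫ η).hom.app ⊤ ((TMul.commIso L L' ≪≫ η).inv.app ⊤ (1 : Γ(X, ⊤))) = (1 : Γ(X, ⊤))
      from congrArg (ev _) (TMul.commIso L L' ≪≫ η).inv_hom_id]
  rw [GrT.homOfSection_app, one_smul, Groth.Agent.QC.res_self]

lemma app_gen (hL' : PicF.IsInvertible L') {b : ℕ} (g : Fin b → Γ(CohB1.tensorMod F L', ⊤)) (j : Fin b) :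
    (CohFinite.tmap (Sigma.desc fun j => secHom η (g j)) L').app ⊤
      ((CohFinite.tmap (Sigma.ι (fun _ : Fin b => L) j) L').app ⊤ (gen₀ η)) = g j := by
  have e : CohFinite.tmap (Sigma.ι (fun _ : Fin b => L) j) L' ≫
      CohFinite.tmap (Sigma.desc fun j => secHom η (g j)) L' = CohFinite.tmap (secHom η (g j)) L' := by
    rw [← CohFinite.tmap_comp, Sigma.ι_desc]
  exact (congrArg (ev (gen₀ η)) e).trans (tmap_secHom_gen η hL' (g j))

end General

variable {k : Type u} [Field k] {n : ℕ}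

/-- Global sections of twists of coherent modules are finite. -/
lemma exists_span (G : (CohB1.ProjSpace n k).Modules) (hG : Coh.IsCoh G) :
    ∃ (b : ℕ) (g : Fin b → Γ(G, ⊤)),
      Submodule.span Γ(CohB1.ProjSpace n k, ⊤) (Set.range g) = ⊤ := by
  obtain ⟨e, he⟩ := CohFinite.exists_zero_equiv k G
  haveI : Module.Finite k (Coh.HH (CohB1.ProjSpace n k) G 0) := CohFinite.finite_projSpace n k G hG 0
  obtain ⟨b, g, hg⟩ := Module.Finite.exists_fin (R := k) (M := Coh.HH (CohB1.ProjSpace n k) G 0)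
  refine ⟨b, fun j => e (g j), eq_top_iff.2 fun z _ => ?_⟩
  suffices h : ∀ x ∈ Submodule.span k (Set.range g),
      e x ∈ Submodule.span Γ(CohB1.ProjSpace n k, ⊤) (Set.range fun j => e (g j)) by
    simpa using h (e.symm z) (hg ▸ Submodule.mem_top)
  intro x hx
  induction hx using Submodule.span_induction with
  | mem x hx => obtain ⟨j, rfl⟩ := hx; exact Submodule.subset_span ⟨j, rfl⟩
  | zero => rw [map_zero]; exact zero_mem _
  | add x y _ _ hx hy => rw [map_add]; exact add_mem hx hy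
  | smul r x _ hx => rw [he]; exact Submodule.smul_mem _ _ hx

theorem hom_eq_zero (G : (CohB1.ProjSpace n k).Modules) (hG : Coh.IsCoh G) (hreg : Curv2.IsMRegular k n G 0)
    {C : (CohB1.ProjSpace n k).Modules} (h : G ⟶ C) (h0 : ∀ z, h.app ⊤ z = 0) : h = 0 := by
  obtain ⟨N, hN⟩ := GrT.exists_epi_twists
    (v := fun i : ProjCech.J.{u} n => (MvPolynomial.X i.down : MvPolynomial (Fin (n + 1)) k))
    (fun i => MvPolynomial.isHomogeneous_X k i.down) hG.1 hG.2 (CohFinite.cov_X n k)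
  obtain ⟨l, p, hp⟩ := hN N le_rfl
  rw [← cancel_epi p, comp_zero]
  refine Sigma.hom_ext _ _ fun j => ?_
  rw [comp_zero, ← Category.assoc]
  set f := Sigma.ι _ j ≫ p with hf
  refine eq_zero_of_tmap (CohFinite.isInvertible_twist n k (N : ℤ)) (f ≫ h) ?_
  obtain ⟨i⟩ := RegCx.twist_twist (k := k) (n := n) (-(N : ℤ)) (N : ℤ) 0 (by ring)
  obtain ⟨j₀⟩ := GrT.nonempty_twist_zero_iso (𝒜 := CohB1.polyGrading n k)
  refine eq_zero_of_gen (i ≪≫ j₀) _ ?_
  rw [CohFinite.tmap_comp]
  show (CohFinite.tmap h _).app ⊤ ((CohFinite.tmap f (Twist.twistProjSpace n k (N : ℤ))).app ⊤ _) = 0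
  generalize (CohFinite.tmap f (Twist.twistProjSpace n k (N : ℤ))).app ⊤ _ = z
  obtain ⟨s, rfl⟩ := surjective_all G hG hreg N z
  induction s using TensorProduct.induction_on with
  | zero => rw [map_zero, map_zero]
  | tmul a c => rw [TMul.tt_tmul, CohFinite.tmap_tm, h0, TMul.zero_tm]
  | add s s' hs hs' => rw [map_add, map_add, hs, hs', add_zero]

theorem reg_of_exists (F : (CohB1.ProjSpace n k).Modules) (m : ℤ) (b : ℕ)
    (φ : (∐ fun _ : Fin b => Twist.twistProjSpace n k (-m)) ⟶ F) [Epi φ]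
    (hK : Curv2.IsMRegular k n (kernel φ) (m + 1)) (hKc : Coh.IsQCoh (kernel φ)) :
    Curv2.IsMRegular k n F m := by
  intro q hq hqn
  have hS : (ShortComplex.mk (kernel.ι φ) φ (kernel.condition φ)).ShortExact :=
    { exact := ShortComplex.exact_of_f_is_kernel _ (kernelIsKernel φ) }
  refine CohFinite.subsingleton_of_shortExact
    (CohFinite.shortExact_tmap (CohFinite.isInvertible_twist n k (m - q)) hS) q ?_ ?_
  · obtain ⟨i⟩ := RegCx.twist_twist (k := k) (n := n) (-m) (m - q) (-(q : ℤ)) (by ring)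
    exact hh_coprod _ _ q (CohQC.hh_subsingleton_of_iso i.symm _
      (ProjCech.twist_vanish n _ q (by omega) (by omega)))
  · by_cases hq1 : q + 1 ≤ n
    · have h := hK (q + 1) (by omega) hq1
      rwa [show m + 1 - ((q + 1 : ℕ) : ℤ) = m - q by push_cast; ring] at h
    · exact RegCx.hh_above _ hKc _ _ (by omega)

theorem exists_of_reg (F : (CohB1.ProjSpace n k).Modules) (hF : Coh.IsCoh F) (m : ℤ)
    (hreg : Curv2.IsMRegular k n F m) :
    ∃ (b : ℕ) (φ : (∐ fun _ : Fin b => Twist.twistProjSpace n k (-m)) ⟶ F),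
      Epi φ ∧ Curv2.IsMRegular k n (kernel φ) (m + 1) := by
  let L' := Twist.twistProjSpace n k m
  have hL' : PicF.IsInvertible L' := CohFinite.isInvertible_twist n k m
  obtain ⟨i⟩ := RegCx.twist_twist (k := k) (n := n) m (-m) 0 (by ring)
  obtain ⟨j₀⟩ := GrT.nonempty_twist_zero_iso (𝒜 := CohB1.polyGrading n k)
  let η : CohB1.tensorMod L' (Twist.twistProjSpace n k (-m)) ≅ Coh.structureModule _ := i ≪≫ j₀
  have hG : Coh.IsCoh (CohB1.tensorMod F L') := CohFinite.isCoh_tensor hF hL'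
  have hG0 : Curv2.IsMRegular k n (CohB1.tensorMod F L') 0 := by
    have := regular_twist hreg m
    rwa [sub_self] at this
  obtain ⟨b, g, hg⟩ := exists_span _ hG
  let φ : (∐ fun _ : Fin b => Twist.twistProjSpace n k (-m)) ⟶ F := Sigma.desc fun j => secHom η (g j)
  have hsurj : ∀ z, ∃ w, (CohFinite.tmap φ L').app ⊤ w = z := by
    intro z
    have hz : z ∈ Submodule.span Γ(CohB1.ProjSpace n k, ⊤) (Set.range g) := hg ▸ Submodule.mem_top
    induction hz using Submodule.span_induction with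
    | mem z hz =>
      obtain ⟨j, rfl⟩ := hz
      refine ⟨(CohFinite.tmap (Sigma.ι (fun _ : Fin b => Twist.twistProjSpace n k (-m)) j) L').app ⊤ (gen₀ η), ?_⟩
      exact app_gen η hL' g j
    | zero => exact ⟨0, map_zero _⟩
    | add x y _ _ hx hy =>
      obtain ⟨v, rfl⟩ := hx; obtain ⟨w, rfl⟩ := hy; exact ⟨v + w, map_add _ v w⟩
    | smul r x _ hx => obtain ⟨v, rfl⟩ := hx; exact ⟨r • v, TMul.app_smul _ r v⟩
  have hepi : Epi φ := by
    refine Abelian.epi_of_cokernel_π_eq_zero φ (eq_zero_of_tmap hL' _ ?_)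
    refine hom_eq_zero _ hG hG0 _ fun z => ?_
    obtain ⟨w, rfl⟩ := hsurj z
    refine (congrArg (ev w) (CohFinite.tmap_comp φ (cokernel.π φ) L').symm).trans ?_
    rw [cokernel.condition, CohFinite.tmap_zero]
    rfl
  refine ⟨b, φ, hepi, fun q hq hqn => ?_⟩
  obtain ⟨q, rfl⟩ : ∃ p, q = p + 1 := ⟨q - 1, by omega⟩
  have hS : (ShortComplex.mk (kernel.ι φ) φ (kernel.condition φ)).ShortExact :=
    { exact := ShortComplex.exact_of_f_is_kernel _ (kernelIsKernel φ) }
  rw [show m + 1 - ((q + 1 : ℕ) : ℤ) = m - q by push_cast; ring]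
  refine hh_left (CohFinite.shortExact_tmap (CohFinite.isInvertible_twist n k (m - q)) hS) q ?_ ?_
  · rcases q with _ | q
    · refine h0_surj _ ?_
      have key : ∀ (c : ℤ), c = m → ∀ z, ∃ w,
          (CohFinite.tmap φ (Twist.twistProjSpace n k c)).app ⊤ w = z := by
        rintro _ rfl; exact hsurj
      exact key _ (by simp)
    · intro y
      haveI := hreg (q + 1) (by omega) (by omega)
      exact ⟨0, Subsingleton.elim _ _⟩
  · obtain ⟨i'⟩ := RegCx.twist_twist (k := k) (n := n) (-m) (m - q) (-(q : ℤ)) (by ring)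
    exact hh_coprod _ _ _ (CohQC.hh_subsingleton_of_iso i'.symm _
      (ProjCech.twist_vanish n _ (q + 1) (by omega) (by omega)))

end Groth.Agent.LinRes
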