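import Groth.Agent.RegTilde.Koszul
import Groth.Agent.CohQC.QuasiAffine

/-!
Castelnuovo–Mumford regularity on projective space: monotonicity and surjectivity of multiplication.
-/

set_option autoImplicit false
set_option linter.unusedSectionVars false
set_option linter.style.haveILetI false
set_option backward.isDefEq.respectTransparency false

universe u

open CategoryTheory CategoryTheory.Limits AlgebraicGeometry TopologicalSpace Opposite
open Groth.Agent.QC (res res_res app_res)
open Groth.Agent.RegKos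

noncomputable section

namespace Groth.Agent.Mumford

variable {k : Type u} [Field k] {n : ℕ}

variable (k n) in
/-- `O(a)`. -/
abbrev O' (a : ℤ) : (CohB1.ProjSpace n k).Modules := Twist.twistProjSpace n k a

set_option maxHeartbeats 2000000 in
lemma exists_eta : Nonempty (CohB1.tensorMod (O' k n (-1)) (O' k n 1) ≅ Coh.structureModule (CohB1.ProjSpace n k)) := by
  obtain ⟨i⟩ := RegCx.twist_twist (k := k) (n := n) (-1) 1 0 (by norm_num)
  obtain ⟨j⟩ := GrT.nonempty_twist_zero_iso (𝒜 := CohB1.polyGrading n k)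
  exact ⟨i ≪≫ j⟩

variable (k n) in
/-- A chosen trivialisation of `O(-1) ⊗ O(1)`. -/
def eta : CohB1.tensorMod (O' k n (-1)) (O' k n 1) ≅ Coh.structureModule (CohB1.ProjSpace n k) :=
  (exists_eta (k := k) (n := n)).some

lemma top_le_one : (⊤ : (CohB1.ProjSpace n k).Opens) ≤
    Proj.basicOpen (CohB1.polyGrading n k) (1 : MvPolynomial (Fin (n + 1)) k) :=
  (Proj.basicOpen_one (CohB1.polyGrading n k)).ge

/-- The section `X i` of `O(1)`. -/
def secX (i : Fin (n + 1)) : Γ(O' k n 1, ⊤) :=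
  GrT.twistGen (CohB1.polyGrading n k) (i := 1) (j := 0) (MvPolynomial.isHomogeneous_X k i)
    SetLike.GradedOne.one_mem (by norm_num) (U := ⊤) top_le_one

lemma secX_isGen (i : Fin (n + 1)) :
    TMul.IsGen (res (O' k n 1) (le_top : Proj.basicOpen (CohB1.polyGrading n k) (MvPolynomial.X i) ≤ ⊤) (secX (k := k) i)) :=
  GrT.twistGen_bijective (CohB1.polyGrading n k) (i := 1) (j := 0) (MvPolynomial.isHomogeneous_X k i)
    SetLike.GradedOne.one_mem (by norm_num) le_rfl (le_top.trans top_le_one)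

/-- The Koszul complex of the coordinates. -/
def K (F : (CohB1.ProjSpace n k).Modules) : Cx (CohB1.ProjSpace n k) :=
  kos (eta k n) F (List.ofFn secX)

lemma exists_cover (x : CohB1.ProjSpace n k) :
    ∃ i : Fin (n + 1), x ∈ Proj.basicOpen (CohB1.polyGrading n k) (MvPolynomial.X i) := by
  obtain ⟨i, hi⟩ := CohFinite.cov_X n k x
  exact ⟨i.down, (ProjectiveSpectrum.mem_basicOpen (CohB1.polyGrading n k) _ x).mpr hi⟩

/-- A chart around a point. -/
def chart (x : CohB1.ProjSpace n k) : (CohB1.ProjSpace n k).Opens :=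
  Proj.basicOpen (CohB1.polyGrading n k) (MvPolynomial.X (exists_cover x).choose)

lemma locEx_K (F : (CohB1.ProjSpace n k).Modules) (x : CohB1.ProjSpace n k) : LocEx (K F) (chart x) :=
  locEx_kos (eta k n) (CohFinite.isInvertible_twist n k (-1)) F _
    ⟨_, List.mem_ofFn.2 ⟨_, rfl⟩, secX_isGen _⟩

lemma mem_chart (x : CohB1.ProjSpace n k) : x ∈ chart x := (exists_cover x).choose_spec

lemma kos_zero (F : (CohB1.ProjSpace n k).Modules) (l : List Γ(O' k n 1, ⊤)) :
    (kos (eta k n) F l).obj 0 = F := by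
  induction l with
  | nil => rfl
  | cons b l ih => exact ih

lemma isCoh_of_isZero {F Z : (CohB1.ProjSpace n k).Modules} (hF : Coh.IsCoh F) (hZ : IsZero Z) : Coh.IsCoh Z :=
  haveI : Epi (0 : F ⟶ Z) := ⟨fun _ _ _ => hZ.eq_of_src _ _⟩
  QC.isCoh_of_epi hF (QC.isQCoh_of_iso ((isZero_cokernel_of_epi (𝟙 F)).iso hZ)
    (QC.isQCoh_cokernel hF.1 hF.1 (𝟙 F))) (0 : F ⟶ Z)

lemma regular_of_isZero {Z : (CohB1.ProjSpace n k).Modules} (hZ : IsZero Z) (m : ℤ) :
    Curv2.IsMRegular k n Z m := fun q _ _ =>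
  CohFinite.subsingleton_of_split _ (fun e : Fin 0 => e.elim0) (fun e => e.elim0) (fun e => e.elim0) (by
    rw [← CohFinite.tmap_id, hZ.eq_of_src (𝟙 Z) 0, CohFinite.tmap_zero]
    simp) q fun e => e.elim0

lemma regular_biprod {A B : (CohB1.ProjSpace n k).Modules} {m : ℤ} (hA : Curv2.IsMRegular k n A m)
    (hB : Curv2.IsMRegular k n B m) : Curv2.IsMRegular k n (A ⊞ B) m := fun q hq hqn =>
  CohQC.subsingleton_hh_middle
    (CohFinite.shortExact_tmap (CohFinite.isInvertible_twist n k (m - q))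
      (ShortComplex.Splitting.ofHasBinaryBiproduct A B).shortExact) q (hA q hq hqn) (hB q hq hqn)

lemma regular_twist {A : (CohB1.ProjSpace n k).Modules} {m : ℤ} (hA : Curv2.IsMRegular k n A m) (a : ℤ) :
    Curv2.IsMRegular k n (CohB1.tensorMod A (O' k n a)) (m - a) := fun q hq hqn =>
  RegCx.hh_twist_twist A a (m - a - q) (m - q) (by ring) q (hA q hq hqn)

lemma kos_terms (F : (CohB1.ProjSpace n k).Modules) (hF : Coh.IsCoh F) (m : ℤ) (hreg : Curv2.IsMRegular k n F m) :
    ∀ (l : List Γ(O' k n 1, ⊤)) (s : ℕ), Coh.IsCoh ((kos (eta k n) F l).obj s) ∧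
      Curv2.IsMRegular k n ((kos (eta k n) F l).obj s) (m + s)
  | [], 0 => ⟨hF, by rw [Nat.cast_zero, add_zero]; exact hreg⟩
  | [], s + 1 => ⟨isCoh_of_isZero hF initialIsInitial.isZero, regular_of_isZero initialIsInitial.isZero _⟩
  | b :: l, 0 => kos_terms F hF m hreg l 0
  | b :: l, s + 1 => by
    haveI : IsNoetherian (CohB1.ProjSpace n k) := CohFinite.isNoetherian_projSpace n k
    obtain ⟨h1, h2⟩ := kos_terms F hF m hreg l (s + 1)
    obtain ⟨h3, h4⟩ := kos_terms F hF m hreg l s
    refine ⟨W7Exist.isCoh_biprod h1 (CohFinite.isCoh_tensor h3 (CohFinite.isInvertible_twist n k (-1))),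
      regular_biprod h2 ?_⟩
    have h5 := regular_twist h4 (-1)
    rwa [show m + (s : ℤ) - -1 = m + ((s + 1 : ℕ) : ℤ) by push_cast; ring] at h5

lemma isZero_homology_K (F : (CohB1.ProjSpace n k).Modules) (i : ℕ) (hi : 0 < i) :
    topologicalKrullDim (CohB1.support ((K F).toChain.homology i)) ≤ 1 := by
  obtain ⟨s, rfl⟩ : ∃ s, i = s + 1 := ⟨i - 1, by omega⟩
  have hz := RegKos.isZero_homology (K F) chart mem_chart (locEx_K F) s
  have he : CohB1.support ((K F).toChain.homology (s + 1)) = ∅ := Set.eq_empty_of_forall_notMem fun x hx => by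
    refine hx ?_
    exact AddCommGrpCat.subsingleton_of_isZero
      ((TopCat.Presheaf.stalkFunctor AddCommGrpCat x).map_isZero
        ((Scheme.Modules.toPresheaf (CohB1.ProjSpace n k)).map_isZero hz))
  rw [he]
  haveI : IsEmpty (IrreducibleCloseds ↥(∅ : Set (CohB1.ProjSpace n k))) :=
    ⟨fun Z => Z.isIrreducible.nonempty.some.2⟩
  exact le_of_eq_of_le Order.krullDim_eq_bot bot_le

theorem regular_chain (F : (CohB1.ProjSpace n k).Modules) (hF : Coh.IsCoh F) (m : ℤ)
    (hreg : Curv2.IsMRegular k n F m) (q s : ℕ) (hq : 1 ≤ q) :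
    Subsingleton (Coh.HH (CohB1.ProjSpace n k)
      (CohB1.tensorMod (Abelian.image ((K F).d s)) (O' k n (m + s + 1 - q))) q) := by
  have h := (RegCx.regular_of_complex (K F).toChain (fun s => (kos_terms F hF m hreg _ s).1) m
    (fun s => (kos_terms F hF m hreg _ s).2) (isZero_homology_K F) (n + 1) q s (by omega) hq).2
  rwa [Cx.toChain_d] at h

instance epi_d0 (F : (CohB1.ProjSpace n k).Modules) : Epi ((K F).d 0) :=
  epi_of_locEx (K F) chart mem_chart (locEx_K F)

/-- Regularity is monotone. -/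
theorem regular_succ (F : (CohB1.ProjSpace n k).Modules) (hF : Coh.IsCoh F) (m : ℤ)
    (hreg : Curv2.IsMRegular k n F m) : Curv2.IsMRegular k n F (m + 1) := by
  intro q hq hqn
  have h := regular_chain F hF m hreg q 0 hq
  rw [Nat.cast_zero, add_zero] at h
  haveI : Epi (Abelian.image.ι ((K F).d 0)) := by
    haveI : Epi (Abelian.factorThruImage ((K F).d 0) ≫ Abelian.image.ι ((K F).d 0)) := by
      rw [Abelian.image.fac]; infer_instance
    exact epi_of_epi (Abelian.factorThruImage ((K F).d 0)) _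
  haveI : IsIso (Abelian.image.ι ((K F).d 0)) := isIso_of_mono_of_epi _
  exact CohQC.hh_subsingleton_of_iso
    (PicGrp.tensorModIso (asIso (Abelian.image.ι ((K F).d 0)) ≪≫ eqToIso (kos_zero F _)) (Iso.refl _)) _ h

theorem regular_add (F : (CohB1.ProjSpace n k).Modules) (hF : Coh.IsCoh F) (m : ℤ)
    (hreg : Curv2.IsMRegular k n F m) : ∀ e : ℕ, Curv2.IsMRegular k n F (m + e)
  | 0 => by simpa using hreg
  | e + 1 => by
    have h := regular_succ F hF (m + e) (regular_add F hF m hreg e)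
    rwa [add_assoc] at h

variable {X : Scheme.{u}}

/-- The sums of pure tensors of global sections. -/
def pureSums (M N : X.Modules) : AddSubgroup Γ(CohB1.tensorMod M N, ⊤) := (TMul.tt M N ⊤).range

lemma tm_mem {M N : X.Modules} (m : Γ(M, ⊤)) (s : Γ(N, ⊤)) : TMul.tm m s ∈ pureSums M N :=
  ⟨_, TMul.tt_tmul m s⟩

lemma kos_range {L L' : X.Modules} (η : CohB1.tensorMod L' L ≅ Coh.structureModule X) (hL : PicF.IsInvertible L)
    (G : X.Modules) : ∀ (l : List Γ(L, ⊤)) (z : Γ(CohB1.tensorMod ((kos η G l).obj 1) L, ⊤)),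
      (CohFinite.tmap ((kos η G l).d 0) L).app ⊤ z ∈ pureSums ((kos η G l).obj 0) L
  | [], z => by
    have : CohFinite.tmap ((kos η G []).d 0) L = 0 := CohFinite.tmap_zero L
    rw [this]
    exact zero_mem _
  | b :: l, z => by
    set C := kos η G l with hC
    show (CohFinite.tmap (biprod.desc (C.d 0) (mulX η b (C.obj 0))) L).app ⊤ z ∈ pureSums (C.obj 0) L
    have htot : (CohFinite.tmap (biprod.fst ≫ biprod.inl : C.obj 1 ⊞ CohB1.tensorMod (C.obj 0) L' ⟶ _) L) +
        CohFinite.tmap (biprod.snd ≫ biprod.inr : C.obj 1 ⊞ CohB1.tensorMod (C.obj 0) L' ⟶ _) L = 𝟙 _ := by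
      rw [← CohFinite.tmap_add, biprod.total, CohFinite.tmap_id]
    have hz := congrArg (ev z) htot
    rw [map_add] at hz
    rw [← show _ = z from hz, map_add]
    refine add_mem ?_ ?_
    · have e := congrArg (ev z) (show CohFinite.tmap (biprod.fst ≫ biprod.inl : C.obj 1 ⊞ CohB1.tensorMod (C.obj 0) L' ⟶ _) L ≫
          CohFinite.tmap (biprod.desc (C.d 0) (mulX η b (C.obj 0))) L =
            CohFinite.tmap biprod.fst L ≫ CohFinite.tmap (C.d 0) L by
        rw [← CohFinite.tmap_comp, ← CohFinite.tmap_comp, Category.assoc, biprod.inl_desc])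
      have h := kos_range η hL G l ((CohFinite.tmap biprod.fst L).app ⊤ z)
      convert h using 1
      exact e
    · have e := congrArg (ev z) (show CohFinite.tmap (biprod.snd ≫ biprod.inr : C.obj 1 ⊞ CohB1.tensorMod (C.obj 0) L' ⟶ _) L ≫
          CohFinite.tmap (biprod.desc (C.d 0) (mulX η b (C.obj 0))) L =
            (CohFinite.tmap biprod.snd L ≫ Phi η (C.obj 0)) ≫ mulR b (C.obj 0) by
        rw [Category.assoc, ← tmap_mulX η b hL, ← CohFinite.tmap_comp, ← CohFinite.tmap_comp, Category.assoc,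
          biprod.inr_desc])
      have h := tm_mem (N := L) ((Phi η (C.obj 0)).app ⊤ ((CohFinite.tmap biprod.snd L).app ⊤ z)) (res L le_rfl b)
      convert h using 1
      exact e

theorem surjective_one (G : (CohB1.ProjSpace n k).Modules) (hG : Coh.IsCoh G) (hreg : Curv2.IsMRegular k n G 0)
    (z : Γ(CohB1.tensorMod G (O' k n 1), ⊤)) : z ∈ pureSums G (O' k n 1) := by
  haveI : Mono (cokernel.desc ((K G).d 1) ((K G).d 0) ((K G).dd 0)) :=
    (exact_of_locEx (K G) chart mem_chart (locEx_K G) 0).mono_cokernelDesc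
  let e : Abelian.image ((K G).d 1) ≅ kernel ((K G).d 0) :=
    (kernelCompMono (cokernel.π ((K G).d 1)) (cokernel.desc ((K G).d 1) ((K G).d 0) ((K G).dd 0))).symm ≪≫
      kernelIsoOfEq (cokernel.π_desc _ _ _)
  have hS : (ShortComplex.mk (kernel.ι ((K G).d 0)) ((K G).d 0) (kernel.condition _)).ShortExact :=
    { exact := ShortComplex.exact_of_f_is_kernel _ (kernelIsKernel _) }
  have h1 := regular_chain G hG 0 hreg 1 1 le_rfl
  norm_num at h1
  have h2 := CohQC.hh_subsingleton_of_iso (PicGrp.tensorModIso e (Iso.refl (O' k n 1))) _ h1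
  have hsurj := CohQC.sections_surjective_top
    (CohQC.seq_shortExact (CohFinite.shortExact_tmap (CohFinite.isInvertible_twist n k 1) hS)) h2
  revert z
  suffices key : ∀ (H : (CohB1.ProjSpace n k).Modules) (h : (K G).obj 0 = H)
      (z : Γ(CohB1.tensorMod H (O' k n 1), ⊤)), z ∈ pureSums H (O' k n 1) from key G (kos_zero G _)
  rintro _ rfl z
  obtain ⟨w, rfl⟩ := hsurj z
  exact kos_range (eta k n) (CohFinite.isInvertible_twist n k 1) G _ w

/-- `(g, a) ↦ g ⊗ i a`. -/
def whiskBil (G : X.Modules) {A B : X.Modules} (i : A ⟶ B) (U : X.Opens) :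
    Γ(G, U) →ₗ[Γ(X, U)] Γ(A, U) →ₗ[Γ(X, U)] Γ(CohB1.tensorMod G B, U) :=
  LinearMap.mk₂ Γ(X, U) (fun g a => TMul.tm g (i.app U a))
    (fun g g' a => TMul.tm_add _ _ _) (fun r g a => TMul.smul_tm _ _ _)
    (fun g a a' => by rw [map_add, TMul.add_tm]) (fun r g a => by rw [TMul.app_smul, TMul.tm_smul])

lemma whiskBil_res (G : X.Modules) {A B : X.Modules} (i : A ⟶ B) {V U : X.Opens} (h : V ≤ U) (g : Γ(G, U))
    (a : Γ(A, U)) : res _ h (whiskBil G i U g a) = whiskBil G i V (res G h g) (res A h a) := by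
  simp only [whiskBil, LinearMap.mk₂_apply]
  rw [TMul.res_tm, app_res]

/-- `G ⊗ -` on morphisms. -/
def whisk (G : X.Modules) {A B : X.Modules} (i : A ⟶ B) : CohB1.tensorMod G A ⟶ CohB1.tensorMod G B :=
  TMul.lift (whiskBil G i) fun h g a => whiskBil_res G i h g a

lemma whisk_tm (G : X.Modules) {A B : X.Modules} (i : A ⟶ B) {U : X.Opens} (g : Γ(G, U)) (a : Γ(A, U)) :
    (whisk G i).app U (TMul.tm g a) = TMul.tm g (i.app U a) :=
  TMul.lift_tm (whiskBil G i) (fun h g a => whiskBil_res G i h g a) g a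

lemma whisk_surjective (G : X.Modules) {A B : X.Modules} (i : A ≅ B) (U : X.Opens) :
    Function.Surjective ((whisk G i.hom).app U) := fun w => by
  refine ⟨(whisk G i.inv).app U w, congrArg (ev w) (show whisk G i.inv ≫ whisk G i.hom = 𝟙 _ from ?_)⟩
  refine TMul.hom_ext fun V g b => ?_
  show (whisk G i.hom).app V ((whisk G i.inv).app V (TMul.tm g b)) = TMul.tm g b
  rw [whisk_tm, whisk_tm]
  exact congrArg (TMul.tm g) (congrArg (ev b) i.inv_hom_id)

theorem surjective_all (G : (CohB1.ProjSpace n k).Modules) (hG : Coh.IsCoh G) (hreg : Curv2.IsMRegular k n G 0) :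
    ∀ (e : ℕ) (z : Γ(CohB1.tensorMod G (O' k n (e : ℤ)), ⊤)), z ∈ pureSums G (O' k n (e : ℤ))
  | 0, z => by
    let one : Γ(O' k n ((0 : ℕ) : ℤ), ⊤) :=
      GrT.twistGen (CohB1.polyGrading n k) (i := 0) (j := 0) SetLike.GradedOne.one_mem
        SetLike.GradedOne.one_mem (by norm_num) (U := ⊤) top_le_one
    have hgen : TMul.IsGen one := GrT.twistGen_bijective (CohB1.polyGrading n k) (i := 0) (j := 0)
      SetLike.GradedOne.one_mem SetLike.GradedOne.one_mem (by norm_num) top_le_one top_le_one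
    obtain ⟨g, rfl⟩ := (TMul.tm_bijective hgen ⊤ le_rfl).2 z
    exact tm_mem _ _
  | e + 1, z => by
    obtain ⟨i⟩ := RegCx.twist_twist (k := k) (n := n) (e : ℤ) 1 ((e + 1 : ℕ) : ℤ) (by push_cast; rfl)
    obtain ⟨v, rfl⟩ := whisk_surjective G i ⊤ z
    obtain ⟨v, rfl⟩ : ∃ v', (TMul.assocHom G (O' k n (e : ℤ)) (O' k n 1)).app ⊤ v' = v :=
      ⟨(TMul.assocInv G _ _).app ⊤ v, congrArg (ev v) (TMul.assocIso G (O' k n (e : ℤ)) (O' k n 1)).inv_hom_id⟩
    have hH : Curv2.IsMRegular k n (CohB1.tensorMod G (O' k n (e : ℤ))) 0 := by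
      have := regular_twist (regular_add G hG 0 hreg e) (e : ℤ)
      simpa using this
    obtain ⟨p, rfl⟩ := surjective_one _ (CohFinite.isCoh_tensor hG (CohFinite.isInvertible_twist n k _)) hH v
    induction p using TensorProduct.induction_on with
    | zero => rw [map_zero, map_zero, map_zero]; exact zero_mem _
    | tmul h b =>
      rw [TMul.tt_tmul]
      obtain ⟨q, rfl⟩ := surjective_all G hG hreg e h
      induction q using TensorProduct.induction_on with
      | zero => rw [map_zero, TMul.zero_tm, map_zero, map_zero]; exact zero_mem _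
      | tmul g a =>
        rw [TMul.tt_tmul, TMul.assocHom_tm, whisk_tm]
        exact tm_mem _ _
      | add q q' hq hq' => rw [map_add, TMul.tm_add, map_add, map_add]; exact add_mem hq hq'
    | add p p' hp hp' => rw [map_add, map_add, map_add]; exact add_mem hp hp'

theorem toSheafify_surjective {M N : X.Modules} (h : ∀ z, z ∈ pureSums M N) :
    Function.Surjective ((toSheafify (Opens.grothendieckTopology X) (CohB1.tensorPre M N).presheaf).app (op ⊤)) :=
  fun z => by
    obtain ⟨p, hp⟩ := h z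
    refine ⟨p, ?_⟩
    refine Eq.trans ?_ hp
    exact (congrArg (fun φ => φ.app (op ⊤) p) (TMul.toPresheaf_toTensor M N)).symm

end Groth.Agent.Mumford
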