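import Groth.Agent.RegTilde.Complexes
import Groth.Agent.W7Exist.Tricky
import Groth.Agent.TMul.Assoc

/-!
The Koszul complex of a family of global sections of an invertible module, and its exactness where they generate.
-/

set_option autoImplicit false
set_option linter.unusedSectionVars false
set_option linter.style.haveILetI false
set_option backward.isDefEq.respectTransparency false

universe u

open CategoryTheory CategoryTheory.Limits AlgebraicGeometry TopologicalSpace Opposite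
open Groth.Agent.QC (res resO res_res res_smul app_res)

noncomputable section

namespace Groth.Agent.RegKos

variable {X : Scheme.{u}}

/-- Evaluation of morphisms at a section. -/
def ev {M N : X.Modules} {U : X.Opens} (s : Γ(M, U)) : (M ⟶ N) →+ Γ(N, U) :=
  AddMonoidHom.mk' (fun φ => φ.app U s) fun _ _ => rfl

lemma app_sum_parts {M N : X.Modules} {U : X.Opens} (s : Γ(M ⊞ N, U)) :
    (biprod.inl : M ⟶ M ⊞ N).app U ((biprod.fst : M ⊞ N ⟶ M).app U s) +
      (biprod.inr : N ⟶ M ⊞ N).app U ((biprod.snd : M ⊞ N ⟶ N).app U s) = s := by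
  have h := congrArg (ev s) (biprod.total (X := M) (Y := N))
  rw [map_add] at h
  exact h

lemma app_fst_inl {M N : X.Modules} {U : X.Opens} (a : Γ(M, U)) :
    (biprod.fst : M ⊞ N ⟶ M).app U ((biprod.inl : M ⟶ M ⊞ N).app U a) = a :=
  congrArg (ev a) (biprod.inl_fst (X := M) (Y := N))

lemma app_snd_inl {M N : X.Modules} {U : X.Opens} (a : Γ(M, U)) :
    (biprod.snd : M ⊞ N ⟶ N).app U ((biprod.inl : M ⟶ M ⊞ N).app U a) = 0 :=
  congrArg (ev a) (biprod.inl_snd (X := M) (Y := N))

lemma app_fst_inr {M N : X.Modules} {U : X.Opens} (b : Γ(N, U)) :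
    (biprod.fst : M ⊞ N ⟶ M).app U ((biprod.inr : N ⟶ M ⊞ N).app U b) = 0 :=
  congrArg (ev b) (biprod.inr_fst (X := M) (Y := N))

lemma app_snd_inr {M N : X.Modules} {U : X.Opens} (b : Γ(N, U)) :
    (biprod.snd : M ⊞ N ⟶ N).app U ((biprod.inr : N ⟶ M ⊞ N).app U b) = b :=
  congrArg (ev b) (biprod.inr_snd (X := M) (Y := N))

lemma app_desc {M N P : X.Modules} (f : M ⟶ P) (g : N ⟶ P) {U : X.Opens} (s : Γ(M ⊞ N, U)) :
    (biprod.desc f g).app U s = f.app U ((biprod.fst : M ⊞ N ⟶ M).app U s) +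
      g.app U ((biprod.snd : M ⊞ N ⟶ N).app U s) := by
  conv_lhs => rw [← app_sum_parts s, map_add]
  exact congrArg₂ (· + ·) (congrArg (ev _) (biprod.inl_desc f g)) (congrArg (ev _) (biprod.inr_desc f g))

variable {L L' : X.Modules} (η : CohB1.tensorMod L' L ≅ Coh.structureModule X) (a : Γ(L, ⊤))

/-- `G → G ⊗ L`, `m ↦ m ⊗ a`. -/
def mulR (G : X.Modules) : G ⟶ CohB1.tensorMod G L :=
  ⟨PresheafOfModules.homMk
    { app := fun U => AddCommGrpCat.ofHom
        (AddMonoidHom.mk' (fun m : Γ(G, U.unop) =>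
          (TMul.tm m (res L le_top a) : Γ(CohB1.tensorMod G L, U.unop))) fun m m' => TMul.tm_add m m' _)
      naturality := fun U V h => by
        ext m
        refine (TMul.res_tm (leOfHom h.unop) m (res L le_top a)).trans ?_ |>.symm
        rw [res_res]
        rfl }
    fun U r m => TMul.smul_tm r m _⟩

lemma mulR_app (G : X.Modules) {U : X.Opens} (m : Γ(G, U)) :
    (mulR a G).app U m = TMul.tm m (res L le_top a) := rfl

/-- The value of a section of `L' ⊗ L`. -/
def etaVal {U : X.Opens} (z : Γ(CohB1.tensorMod L' L, U)) : Γ(X, U) := η.hom.app U z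

lemma etaVal_add {U : X.Opens} (z z' : Γ(CohB1.tensorMod L' L, U)) :
    etaVal η (z + z') = etaVal η z + etaVal η z' := map_add (η.hom.app U).hom z z'

lemma etaVal_smul {U : X.Opens} (r : Γ(X, U)) (z : Γ(CohB1.tensorMod L' L, U)) :
    etaVal η (r • z) = r * etaVal η z := TMul.app_smul η.hom r z

lemma etaVal_res {V U : X.Opens} (h : V ≤ U) (z : Γ(CohB1.tensorMod L' L, U)) :
    etaVal η (res (CohB1.tensorMod L' L) h z) = resO X h (etaVal η z) := (app_res η.hom h z).symm

/-- Pairing `G ⊗ (L' ⊗ L) → G`. -/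
def pairBil (G : X.Modules) (U : X.Opens) :
    Γ(G, U) →ₗ[Γ(X, U)] Γ(CohB1.tensorMod L' L, U) →ₗ[Γ(X, U)] Γ(G, U) :=
  LinearMap.mk₂ Γ(X, U) (fun m z => etaVal η z • m)
    (fun m m' z => smul_add _ _ _)
    (fun r m z => smul_comm _ _ _)
    (fun m z z' => by rw [etaVal_add, add_smul])
    (fun r m z => by rw [etaVal_smul, mul_smul])

lemma pairBil_res (G : X.Modules) {V U : X.Opens} (h : V ≤ U) (m : Γ(G, U)) (z : Γ(CohB1.tensorMod L' L, U)) :
    res G h (pairBil η G U m z) = pairBil η G V (res G h m) (res _ h z) := by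
  show res G h (etaVal η z • m) = etaVal η (res _ h z) • res G h m
  rw [res_smul, etaVal_res]

/-- `G ⊗ (L' ⊗ L) → G`. -/
def pairHom (G : X.Modules) : CohB1.tensorMod G (CohB1.tensorMod L' L) ⟶ G :=
  TMul.lift (pairBil η G) (fun h m z => pairBil_res η G h m z)

lemma pairHom_tm (G : X.Modules) {U : X.Opens} (m : Γ(G, U)) (z : Γ(CohB1.tensorMod L' L, U)) :
    (pairHom η G).app U (TMul.tm m z) = etaVal η z • m :=
  TMul.lift_tm (pairBil η G) (fun h m z => pairBil_res η G h m z) m z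

/-- `(G ⊗ L') ⊗ L → G`. -/
def Phi (G : X.Modules) : CohB1.tensorMod (CohB1.tensorMod G L') L ⟶ G :=
  TMul.assocHom G L' L ≫ pairHom η G

lemma Phi_tm (G : X.Modules) {U : X.Opens} (m : Γ(G, U)) (t : Γ(L', U)) (s : Γ(L, U)) :
    (Phi η G).app U (TMul.tm (TMul.tm m t) s) = etaVal η (TMul.tm t s) • m := by
  refine Eq.trans ?_ (pairHom_tm η G m (TMul.tm t s))
  exact congrArg ((pairHom η G).app U) (TMul.assocHom_tm m t s)

lemma Phi_bijective (G : X.Modules) (U : X.Opens) : Function.Bijective ((Phi η G).app U) := by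
  let z : Γ(CohB1.tensorMod L' L, ⊤) := η.inv.app ⊤ (1 : Γ(X, ⊤))
  have hz : ∀ (V : X.Opens), etaVal η (res (CohB1.tensorMod L' L) (le_top : V ≤ ⊤) z) = 1 := fun V => by
    rw [etaVal_res, show etaVal η z = 1 from congrArg (ev _) η.inv_hom_id]
    exact map_one _
  have hinj : ∀ (V : X.Opens), Function.Injective (etaVal η (U := V)) := fun V p q h => by
    have := congrArg (η.inv.app V) (show η.hom.app V p = η.hom.app V q from h)
    rwa [show η.inv.app V (η.hom.app V p) = p from congrArg (ev p) η.hom_inv_id,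
      show η.inv.app V (η.hom.app V q) = q from congrArg (ev q) η.hom_inv_id] at this
  have hgen : TMul.IsGen z := fun V hV => by
    have hmul : ∀ c : Γ(X, V), etaVal η (c • res (CohB1.tensorMod L' L) hV z) = c := fun c => by
      rw [etaVal_smul, hz V, mul_one]
    exact ⟨fun p q h => (hmul p).symm.trans ((congrArg (etaVal η) h).trans (hmul q)),
      fun w => ⟨etaVal η w, hinj V (hmul _)⟩⟩
  have hl : ∀ m : Γ(G, U), (pairHom η G).app U (TMul.tm m (res (CohB1.tensorMod L' L) le_top z)) = m := fun m => by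
    rw [pairHom_tm, hz U, one_smul]
  have hbij : Function.Bijective ((pairHom η G).app U) := by
    refine ⟨fun p q h => ?_, fun m => ⟨_, hl m⟩⟩
    obtain ⟨p, rfl⟩ := (TMul.tm_bijective hgen U le_top).2 p
    obtain ⟨q, rfl⟩ := (TMul.tm_bijective hgen U le_top).2 q
    simp only [hl] at h
    rw [h]
  have hassoc : Function.Bijective ((TMul.assocIso G L' L).hom.app U) :=
    ⟨Function.LeftInverse.injective (g := (TMul.assocIso G L' L).inv.app U)
        fun p => congrArg (ev p) (TMul.assocIso G L' L).hom_inv_id,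
      Function.RightInverse.surjective (g := (TMul.assocIso G L' L).inv.app U)
        fun p => congrArg (ev p) (TMul.assocIso G L' L).inv_hom_id⟩
  exact hbij.comp hassoc

lemma Phi_natural {G H : X.Modules} (d : G ⟶ H) :
    CohFinite.tmap (CohFinite.tmap d L') L ≫ Phi η H = Phi η G ≫ d := by
  refine TMul.hom_ext₃ fun U m t s => ?_
  show (Phi η H).app U ((CohFinite.tmap (CohFinite.tmap d L') L).app U _) = d.app U ((Phi η G).app U _)
  rw [CohFinite.tmap_tm, CohFinite.tmap_tm, Phi_tm, Phi_tm, TMul.app_smul]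

/-- `G ⊗ L' → G`, multiplication by `a`. -/
def mulX (G : X.Modules) : CohB1.tensorMod G L' ⟶ G := mulR a (CohB1.tensorMod G L') ≫ Phi η G

lemma mulX_natural {G H : X.Modules} (d : G ⟶ H) :
    CohFinite.tmap d L' ≫ mulX η a H = mulX η a G ≫ d := by
  have h : CohFinite.tmap d L' ≫ mulR a (CohB1.tensorMod H L') =
      mulR a (CohB1.tensorMod G L') ≫ CohFinite.tmap (CohFinite.tmap d L') L := by
    refine TMul.hom_ext fun U m t => ?_
    exact (CohFinite.tmap_tm (CohFinite.tmap d L') L (TMul.tm m t) _).symm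
  rw [mulX, mulX, Category.assoc, ← Category.assoc (CohFinite.tmap d L'), h, Category.assoc, Phi_natural]

lemma mulX_bijective (G : X.Modules) {U : X.Opens} (ha : TMul.IsGen (res L (le_top : U ≤ ⊤) a)) {V : X.Opens}
    (hV : V ≤ U) : Function.Bijective ((mulX η a G).app V) := by
  refine (Phi_bijective η G V).comp ?_
  have := TMul.tm_bijective (M := CohB1.tensorMod G L') ha V hV
  simp only [res_res] at this
  exact this

/-- The key identity. -/
lemma tmap_mulX (hL : PicF.IsInvertible L) (G : X.Modules) :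
    CohFinite.tmap (mulX η a G) L = Phi η G ≫ mulR a G := by
  refine TMul.hom_ext fun U w s => Groth.Agent.QC.section_eq_of_locally fun x hx => ?_
  obtain ⟨V, hV, e, hxV, he⟩ := CohFinite.exists_gen_le hL hx
  refine ⟨V, hV, hxV, ?_⟩
  rw [app_res, app_res, TMul.res_tm]
  obtain ⟨c, hc⟩ := (he V le_rfl).2 (res L hV s)
  obtain ⟨b, hb⟩ := (he V le_rfl).2 (res L le_top a)
  simp only [Groth.Agent.QC.res_self] at hb hc
  rw [CohFinite.tmap_tm]
  show TMul.tm ((Phi η G).app V (TMul.tm (res _ hV w) (res L le_top a))) (res L hV s) =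
    TMul.tm ((Phi η G).app V (TMul.tm (res _ hV w) (res L hV s))) (res L le_top a)
  rw [← hb, ← hc]
  simp only [TMul.tm_smul, TMul.app_smul, TMul.smul_tm]
  exact smul_comm _ _ _

/-- Complexes in non-negative degrees, as sequences. -/
structure Cx (X : Scheme.{u}) : Type (u + 1) where
  /-- the terms -/
  obj : ℕ → X.Modules
  /-- the differentials -/
  d : ∀ s, obj (s + 1) ⟶ obj s
  dd : ∀ s, d (s + 1) ≫ d s = 0

/-- The terms of the cone. -/
def coneObj (L' : X.Modules) (C : Cx X) : ℕ → X.Modules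
  | 0 => C.obj 0
  | s + 1 => C.obj (s + 1) ⊞ CohB1.tensorMod (C.obj s) L'

/-- The differentials of the cone. -/
def coneD (C : Cx X) : ∀ s, coneObj L' C (s + 1) ⟶ coneObj L' C s
  | 0 => biprod.desc (C.d 0) (mulX η a (C.obj 0))
  | s + 1 => biprod.lift (biprod.desc (C.d (s + 1)) (mulX η a (C.obj (s + 1))))
      (biprod.desc 0 (-CohFinite.tmap (C.d s) L'))

lemma cone_dd (C : Cx X) : ∀ s, coneD η a C (s + 1) ≫ coneD η a C s = 0
  | 0 => by
    show biprod.lift _ _ ≫ biprod.desc (C.d 0) (mulX η a (C.obj 0)) = 0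
    rw [biprod.lift_desc]
    refine biprod.hom_ext' _ _ ?_ ?_
    · simp [C.dd]
    · simp [mulX_natural]
  | s + 1 => by
    show biprod.lift _ _ ≫ biprod.lift _ _ = 0
    refine biprod.hom_ext _ _ ?_ ?_
    · rw [Category.assoc, biprod.lift_fst, biprod.lift_desc, zero_comp]
      refine biprod.hom_ext' _ _ ?_ ?_
      · simp [C.dd]
      · simp [mulX_natural]
    · rw [Category.assoc, biprod.lift_snd, biprod.lift_desc, zero_comp]
      refine biprod.hom_ext' _ _ ?_ ?_
      · simp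
      · simp [← CohFinite.tmap_comp, C.dd, CohFinite.tmap_zero]

/-- The cone of multiplication by `a`. -/
def cone (C : Cx X) : Cx X := ⟨coneObj L' C, coneD η a C, cone_dd η a C⟩

/-- `G` in degree zero. -/
def single (G : X.Modules) : Cx X where
  obj s := match s with
    | 0 => G
    | _ + 1 => ⊥_ X.Modules
  d _ := 0
  dd _ := zero_comp

/-- The Koszul complex of a list of sections. -/
def kos (G : X.Modules) : List Γ(L, ⊤) → Cx X
  | [] => single G
  | b :: l => cone η b (kos G l)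

/-- Exactness below `U`. -/
def LocEx (C : Cx X) (U : X.Opens) : Prop :=
  (∀ (V : X.Opens), V ≤ U → ∀ (y : Γ(C.obj 0, V)) (x : X), x ∈ V → ∃ (W : X.Opens) (hW : W ≤ V),
      x ∈ W ∧ ∃ z, (C.d 0).app W z = res _ hW y) ∧
    ∀ (s : ℕ) (V : X.Opens), V ≤ U → ∀ (y : Γ(C.obj (s + 1), V)), (C.d s).app V y = 0 → ∀ (x : X), x ∈ V →
      ∃ (W : X.Opens) (hW : W ≤ V), x ∈ W ∧ ∃ z, (C.d (s + 1)).app W z = res _ hW y

lemma coneD_succ_app (C : Cx X) (s : ℕ) {V : X.Opens} (y : Γ(coneObj L' C (s + 1 + 1), V)) :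
    (biprod.fst : C.obj (s + 1) ⊞ CohB1.tensorMod (C.obj s) L' ⟶ _).app V ((coneD η a C (s + 1)).app V y) =
        (C.d (s + 1)).app V ((biprod.fst : C.obj (s + 1 + 1) ⊞ CohB1.tensorMod (C.obj (s + 1)) L' ⟶ _).app V y) +
          (mulX η a (C.obj (s + 1))).app V ((biprod.snd : C.obj (s + 1 + 1) ⊞ CohB1.tensorMod (C.obj (s + 1)) L' ⟶ _).app V y) ∧
      (biprod.snd : C.obj (s + 1) ⊞ CohB1.tensorMod (C.obj s) L' ⟶ _).app V ((coneD η a C (s + 1)).app V y) =
        -(CohFinite.tmap (C.d s) L').app V ((biprod.snd : C.obj (s + 1 + 1) ⊞ CohB1.tensorMod (C.obj (s + 1)) L' ⟶ _).app V y) := by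
  constructor
  · refine (congrArg (ev y) (biprod.lift_fst (biprod.desc (C.d (s + 1)) (mulX η a (C.obj (s + 1))))
      (biprod.desc 0 (-CohFinite.tmap (C.d s) L')))).trans ?_
    exact app_desc _ _ y
  · refine (congrArg (ev y) (biprod.lift_snd (biprod.desc (C.d (s + 1)) (mulX η a (C.obj (s + 1))))
      (biprod.desc 0 (-CohFinite.tmap (C.d s) L')))).trans ?_
    refine (app_desc _ _ y).trans ?_
    exact zero_add _

lemma sum_parts_eq {M N : X.Modules} {U : X.Opens} {s t : Γ(M ⊞ N, U)}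
    (h₁ : (biprod.fst : M ⊞ N ⟶ M).app U s = (biprod.fst : M ⊞ N ⟶ M).app U t)
    (h₂ : (biprod.snd : M ⊞ N ⟶ N).app U s = (biprod.snd : M ⊞ N ⟶ N).app U t) : s = t := by
  rw [← app_sum_parts s, ← app_sum_parts t, h₁, h₂]

/-- Where `a` generates, the cone is exact. -/
lemma locEx_cone_of_gen (C : Cx X) {U : X.Opens} (ha : TMul.IsGen (res L (le_top : U ≤ ⊤) a)) :
    LocEx (cone η a C) U := by
  constructor
  · intro V hV y x hx
    obtain ⟨w, hw⟩ := (mulX_bijective η a (C.obj 0) ha hV).2 y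
    refine ⟨V, le_rfl, hx, (biprod.inr : _ ⟶ C.obj 1 ⊞ _).app V w, ?_⟩
    refine (app_desc _ _ _).trans ?_
    rw [app_fst_inr, app_snd_inr, map_zero, zero_add]
    exact hw.trans (Groth.Agent.QC.res_self _ _ y).symm
  · intro s V hV y hy x hx
    set c := (biprod.fst : C.obj (s + 1) ⊞ CohB1.tensorMod (C.obj s) L' ⟶ _).app V y with hc
    set e := (biprod.snd : C.obj (s + 1) ⊞ CohB1.tensorMod (C.obj s) L' ⟶ _).app V y with he
    obtain ⟨w, hw⟩ := (mulX_bijective η a (C.obj (s + 1)) ha hV).2 c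
    have hdw : (mulX η a (C.obj s)).app V ((CohFinite.tmap (C.d s) L').app V w) = (C.d s).app V c := by
      rw [← hw]
      exact congrArg (ev w) (mulX_natural η a (C.d s))
    have hzero : (C.d s).app V c + (mulX η a (C.obj s)).app V e = 0 := by
      cases s with
      | zero => exact (app_desc _ _ y).symm.trans hy
      | succ s =>
        refine (coneD_succ_app η a C s y).1.symm.trans ?_
        exact (congrArg ((biprod.fst : C.obj (s + 1) ⊞ CohB1.tensorMod (C.obj s) L' ⟶ _).app V) hy).trans (map_zero _)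
    have he' : -(CohFinite.tmap (C.d s) L').app V w = e := by
      refine (mulX_bijective η a (C.obj s) ha hV).1 ?_
      rw [map_neg, hdw]
      exact neg_eq_of_add_eq_zero_right hzero
    refine ⟨V, le_rfl, hx, (biprod.inr : _ ⟶ C.obj (s + 1 + 1) ⊞ _).app V w, ?_⟩
    rw [Groth.Agent.QC.res_self]
    obtain ⟨h1, h2⟩ := coneD_succ_app η a C s ((biprod.inr : _ ⟶ C.obj (s + 1 + 1) ⊞ _).app V w)
    refine sum_parts_eq (h1.trans ?_) (h2.trans ?_)
    · rw [app_fst_inr, app_snd_inr, map_zero, zero_add, hw]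
    · rw [app_snd_inr, he']

/-- Tensoring with an invertible module keeps exactness. -/
lemma locEx_tensor (C : Cx X) (hL' : PicF.IsInvertible L') {U : X.Opens} (h : LocEx C U) :
    (∀ (V : X.Opens), V ≤ U → ∀ (y : Γ(CohB1.tensorMod (C.obj 0) L', V)) (x : X), x ∈ V →
        ∃ (W : X.Opens) (hW : W ≤ V), x ∈ W ∧ ∃ z, (CohFinite.tmap (C.d 0) L').app W z = res _ hW y) ∧
      ∀ (s : ℕ) (V : X.Opens), V ≤ U → ∀ (y : Γ(CohB1.tensorMod (C.obj (s + 1)) L', V)),
        (CohFinite.tmap (C.d s) L').app V y = 0 → ∀ (x : X), x ∈ V →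
          ∃ (W : X.Opens) (hW : W ≤ V), x ∈ W ∧ ∃ z, (CohFinite.tmap (C.d (s + 1)) L').app W z = res _ hW y := by
  constructor
  · intro V hV y x hx
    obtain ⟨V', hV', e, hxV', he⟩ := CohFinite.exists_gen_le hL' hx
    obtain ⟨c, hc⟩ := (TMul.tm_bijective he V' le_rfl).2 (res _ hV' y)
    obtain ⟨W, hW, hxW, z, hz⟩ := h.1 V' (hV'.trans hV) c x hxV'
    refine ⟨W, hW.trans hV', hxW, TMul.tm z (res L' hW e), ?_⟩
    rw [CohFinite.tmap_tm, hz, ← TMul.res_tm, ← res_res _ hW hV', ← hc]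
    simp only [Groth.Agent.QC.res_self]
  · intro s V hV y hy x hx
    obtain ⟨V', hV', e, hxV', he⟩ := CohFinite.exists_gen_le hL' hx
    obtain ⟨c, hc⟩ := (TMul.tm_bijective he V' le_rfl).2 (res _ hV' y)
    simp only [Groth.Agent.QC.res_self] at hc
    have hc0 : (C.d s).app V' c = 0 := by
      refine (TMul.tm_bijective he V' le_rfl).1 ?_
      simp only [Groth.Agent.QC.res_self]
      rw [TMul.zero_tm, ← CohFinite.tmap_tm, hc, ← app_res, hy, map_zero]
    obtain ⟨W, hW, hxW, z, hz⟩ := h.2 s V' (hV'.trans hV) c hc0 x hxV'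
    refine ⟨W, hW.trans hV', hxW, TMul.tm z (res L' hW e), ?_⟩
    rw [CohFinite.tmap_tm, hz, ← TMul.res_tm, hc, res_res]

/-- The cone of exact complexes is exact. -/
lemma locEx_cone (C : Cx X) (hL' : PicF.IsInvertible L') {U : X.Opens} (h : LocEx C U) :
    LocEx (cone η a C) U := by
  obtain ⟨hT0, hT⟩ := locEx_tensor C hL' h
  constructor
  · intro V hV y x hx
    obtain ⟨W, hW, hxW, z, hz⟩ := h.1 V hV y x hx
    refine ⟨W, hW, hxW, (biprod.inl : C.obj 1 ⟶ C.obj 1 ⊞ CohB1.tensorMod (C.obj 0) L').app W z, ?_⟩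
    refine (app_desc _ _ _).trans ?_
    rw [app_fst_inl, app_snd_inl, map_zero, add_zero]
    exact hz
  · intro s V hV y hy x hx
    set c := (biprod.fst : C.obj (s + 1) ⊞ CohB1.tensorMod (C.obj s) L' ⟶ _).app V y with hc
    set e := (biprod.snd : C.obj (s + 1) ⊞ CohB1.tensorMod (C.obj s) L' ⟶ _).app V y with he
    have hd : (C.d s).app V c + (mulX η a (C.obj s)).app V e = 0 := by
      cases s with
      | zero => exact (app_desc _ _ y).symm.trans hy
      | succ s =>
        refine (coneD_succ_app η a C s y).1.symm.trans ?_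
        exact (congrArg ((biprod.fst : C.obj (s + 1) ⊞ CohB1.tensorMod (C.obj s) L' ⟶ _).app V) hy).trans (map_zero _)
    have hpre : ∃ (W : X.Opens) (hW : W ≤ V), x ∈ W ∧
        ∃ z, (CohFinite.tmap (C.d s) L').app W z = res _ hW e := by
      cases s with
      | zero => exact hT0 V hV e x hx
      | succ s =>
        refine hT s V hV e ?_ x hx
        refine neg_eq_zero.1 ((coneD_succ_app η a C s y).2.symm.trans ?_)
        exact (congrArg ((biprod.snd : C.obj (s + 1) ⊞ CohB1.tensorMod (C.obj s) L' ⟶ _).app V) hy).trans (map_zero _)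
    obtain ⟨W, hW, hxW, e', he'⟩ := hpre
    have hcyc : (C.d s).app W (res _ hW c + (mulX η a (C.obj (s + 1))).app W e') = 0 := by
      have h3 : (C.d s).app W ((mulX η a (C.obj (s + 1))).app W e') =
          (mulX η a (C.obj s)).app W ((CohFinite.tmap (C.d s) L').app W e') :=
        (congrArg (ev e') (mulX_natural η a (C.d s))).symm
      rw [map_add, h3, he', ← app_res, ← app_res, ← map_add, hd, map_zero]
    obtain ⟨W', hW', hxW', c', hc'⟩ := h.2 s W (hW.trans hV) _ hcyc x hxW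
    let p := (biprod.inl : _ ⟶ C.obj (s + 1 + 1) ⊞ CohB1.tensorMod (C.obj (s + 1)) L').app W' c' +
      (biprod.inr : _ ⟶ C.obj (s + 1 + 1) ⊞ CohB1.tensorMod (C.obj (s + 1)) L').app W' (-res _ hW' e')
    have hp1 : (biprod.fst : C.obj (s + 1 + 1) ⊞ CohB1.tensorMod (C.obj (s + 1)) L' ⟶ _).app W' p = c' := by
      rw [map_add, app_fst_inl, app_fst_inr, add_zero]
    have hp2 : (biprod.snd : C.obj (s + 1 + 1) ⊞ CohB1.tensorMod (C.obj (s + 1)) L' ⟶ _).app W' p = -res _ hW' e' := by
      rw [map_add, app_snd_inl, app_snd_inr, zero_add]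
    refine ⟨W', hW'.trans hW, hxW', p, ?_⟩
    obtain ⟨h1, h2⟩ := coneD_succ_app η a C s p
    refine sum_parts_eq (h1.trans ?_) (h2.trans ?_)
    · rw [hp1, hp2, hc', map_neg, map_add, res_res, app_res (mulX η a (C.obj (s + 1))), add_neg_cancel_right, hc]
      exact app_res _ _ y
    · rw [hp2, map_neg, neg_neg, ← app_res, he', res_res, he]
      exact app_res _ _ y

/-- The Koszul complex is exact where one of the sections generates. -/
theorem locEx_kos (hL' : PicF.IsInvertible L') (G : X.Modules) {U : X.Opens} :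
    ∀ l : List Γ(L, ⊤), (∃ b ∈ l, TMul.IsGen (res L (le_top : U ≤ ⊤) b)) → LocEx (kos η G l) U
  | [], ⟨_, hb, _⟩ => absurd hb List.not_mem_nil
  | b :: l, ⟨c, hc, hgen⟩ => by
    rcases List.mem_cons.1 hc with rfl | hc
    · exact locEx_cone_of_gen η c _ hgen
    · exact locEx_cone η b _ hL' (locEx_kos hL' G l ⟨c, hc, hgen⟩)

/-- The chain complex of a sequence. -/
def Cx.toChain (C : Cx X) : ChainComplex X.Modules ℕ := ChainComplex.of C.obj C.d C.dd

lemma Cx.toChain_d (C : Cx X) (s : ℕ) : C.toChain.d (s + 1) s = C.d s :=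
  ChainComplex.of_d C.obj C.d s

theorem epi_of_locEx (C : Cx X) (U : X → X.Opens) (hU : ∀ x, x ∈ U x) (h : ∀ x, LocEx C (U x)) :
    Epi (C.d 0) := by
  refine InvGen.epi_of_locally _ fun V t x hx => ?_
  obtain ⟨W, hW, hxW, z, hz⟩ := (h x).1 (V ⊓ U x) inf_le_right (res _ inf_le_left t) x ⟨hx, hU x⟩
  exact ⟨W, hW.trans inf_le_left, hxW, z, by rw [hz, res_res]⟩

theorem exact_of_locEx (C : Cx X) (U : X → X.Opens) (hU : ∀ x, x ∈ U x) (h : ∀ x, LocEx C (U x)) (s : ℕ) :
    (ShortComplex.mk _ _ (C.dd s)).Exact := by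
  rw [ShortComplex.exact_iff_epi_kernel_lift]
  refine InvGen.epi_of_locally _ fun V t x hx => ?_
  have hy : (C.d s).app (V ⊓ U x) (res _ inf_le_left ((kernel.ι (C.d s)).app V t)) = 0 := by
    rw [← app_res, show (C.d s).app V ((kernel.ι (C.d s)).app V t) = 0 from
      congrArg (ev t) (kernel.condition (C.d s)), map_zero]
  obtain ⟨W, hW, hxW, z, hz⟩ := (h x).2 s (V ⊓ U x) inf_le_right _ hy x ⟨hx, hU x⟩
  refine ⟨W, hW.trans inf_le_left, hxW, z, Groth.Agent.QC.app_injective_of_mono (kernel.ι (C.d s)) _ ?_⟩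
  refine (congrArg (ev z) (kernel.lift_ι (C.d s) (C.d (s + 1)) (C.dd s))).trans ?_
  show (C.d (s + 1)).app W z = _
  rw [hz, ← app_res, res_res]

theorem isZero_homology (C : Cx X) (U : X → X.Opens) (hU : ∀ x, x ∈ U x) (h : ∀ x, LocEx C (U x)) (s : ℕ) :
    IsZero (C.toChain.homology (s + 1)) := by
  rw [← HomologicalComplex.exactAt_iff_isZero_homology,
    C.toChain.exactAt_iff' (s + 1 + 1) (s + 1) s (by simp) (by simp)]
  refine (ShortComplex.exact_iff_of_iso ?_).2 (exact_of_locEx C U hU h s)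
  exact ShortComplex.isoMk (Iso.refl _) (Iso.refl _) (Iso.refl _)
    (by simpa using (C.toChain_d (s + 1)).symm) (by simpa using (C.toChain_d s).symm)

end Groth.Agent.RegKos
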