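import Groth.Agent.RegTilde.Mumford
import Groth.Agent.SerrePn.ClosedTwist
import Groth.Agent.CohFinite.Serre
import Groth.Agent.CurveRR.Euler
import Groth.Agent.CompInt.Cohom

/-!
Regularity of an extension by a twist: Mumford's bound.
-/

set_option autoImplicit false
set_option linter.unusedSectionVars false
set_option linter.style.haveILetI false
set_option backward.isDefEq.respectTransparency false
set_option backward.isDefEq.respectTransparency.types false

universe u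

open CategoryTheory CategoryTheory.Limits AlgebraicGeometry TopologicalSpace Opposite
open Groth.Agent.CohFinite (hhMap hhδ hhEquiv tmap tmap_tm shortExact_tmap shortExact_toAb)

noncomputable section

namespace Groth.Agent.ExtTwist

variable {k : Type u} [Field k] {n : ℕ}

local notation "PP" => CohB1.ProjSpace n k

/-- `F(j)`. -/
abbrev tw (F : (CohB1.ProjSpace n k).Modules) (j : ℤ) : (CohB1.ProjSpace n k).Modules :=
  CohB1.tensorMod F (Twist.twistProjSpace n k j)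

lemma nonempty_tw_tw (F : (PP).Modules) (a b c : ℤ) (h : a + b = c) : Nonempty (tw (tw F a) b ≅ tw F c) := by
  obtain ⟨e⟩ := RegCx.twist_twist (k := k) (n := n) a b c h
  exact ⟨TMul.assocIso _ _ _ ≪≫ PicGrp.tensorModIso (Iso.refl _) e⟩

lemma isCoh_tw {F : (PP).Modules} (hF : Coh.IsCoh F) (j : ℤ) : Coh.IsCoh (tw F j) :=
  CohFinite.isCoh_tensor hF (CohFinite.isInvertible_twist n k j)

/-- Serre vanishing along the twists. -/
theorem exists_vanish (F : (PP).Modules) (hF : Coh.IsCoh F) :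
    ∃ N : ℤ, ∀ j, N ≤ j → ∀ q, 1 ≤ q → Subsingleton (Coh.HH (CohB1.ProjSpace n k) (tw F j) q) := by
  obtain ⟨m₀, hm⟩ := CohFinite.vanish_projSpace n k F hF
  refine ⟨m₀, fun j hj q hq => ?_⟩
  obtain ⟨a, rfl⟩ : ∃ a : ℕ, j = a := ⟨j.toNat, by omega⟩
  obtain ⟨p, rfl⟩ : ∃ p, q = p + 1 := ⟨q - 1, by omega⟩
  obtain ⟨e⟩ := GrT.nonempty_iso_tensorPow (𝒜 := CohB1.polyGrading n k) (CohFinite.cov_one n k) a
  exact CohQC.hh_subsingleton_of_iso (PicGrp.tensorModIso (Iso.refl F) e.symm) _ (hm a (by omega) p)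

/-- The twist of a short complex. -/
abbrev twS (S : ShortComplex (CohB1.ProjSpace n k).Modules) (j : ℤ) : ShortComplex (CohB1.ProjSpace n k).Modules :=
  ShortComplex.mk (tmap S.f (Twist.twistProjSpace n k j)) (tmap S.g (Twist.twistProjSpace n k j))
    (by rw [← CohFinite.tmap_comp, S.zero, CohFinite.tmap_zero])

lemma shortExact_twS {S : ShortComplex (PP).Modules} (hS : S.ShortExact) (j : ℤ) : (twS S j).ShortExact :=
  shortExact_tmap (CohFinite.isInvertible_twist n k j) hS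

section Linear

variable {X : Scheme.{u}} [X.Over (Spec (CommRingCat.of k))]

lemma surjective_h0 {M N : X.Modules} (φ : M ⟶ N) (h : Function.Surjective (φ.app ⊤)) :
    Function.Surjective (hhMap k φ 0) := by
  intro t
  let hT : IsTerminal (⊤ : X.Opens) := isTerminalTop
  obtain ⟨y, hy⟩ := h (Sheaf.H.equiv₀ (Coh.toAb N) hT t)
  refine ⟨(Sheaf.H.equiv₀ (Coh.toAb M) hT).symm y, ?_⟩
  refine (Sheaf.H.equiv₀ (Coh.toAb N) hT).injective ?_
  refine (CompInt.h0_nat φ _).trans ?_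
  rw [AddEquiv.apply_symm_apply]
  exact hy

lemma surjective_app_of_h0 {M N : X.Modules} (φ : M ⟶ N) (h : Function.Surjective (hhMap k φ 0)) :
    Function.Surjective (φ.app ⊤) := by
  intro s
  let hT : IsTerminal (⊤ : X.Opens) := isTerminalTop
  obtain ⟨y, hy⟩ := h ((Sheaf.H.equiv₀ (Coh.toAb N) hT).symm s)
  refine ⟨Sheaf.H.equiv₀ (Coh.toAb M) hT y, ?_⟩
  refine (CompInt.h0_nat φ y).symm.trans ?_
  exact (congrArg _ hy).trans (AddEquiv.apply_symm_apply _ s)

variable {S : ShortComplex X.Modules} (hS : S.ShortExact)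

include hS in
lemma injective_succ (q : ℕ) (h : Function.Surjective (hhMap k S.g q)) :
    Function.Injective (hhMap k S.f (q + 1)) := by
  refine (injective_iff_map_eq_zero _).2 fun x hx => ?_
  obtain ⟨y, rfl⟩ := (CohFinite.map_f_eq_zero_iff (shortExact_toAb hS) q x).1 hx
  exact (CohFinite.δH_eq_zero_iff (shortExact_toAb hS) q y).2 (h y)

include hS in
lemma surjective_f (q : ℕ) (h : Subsingleton (Coh.HH X S.X₃ q)) : Function.Surjective (hhMap k S.f q) :=
  fun x => (CohFinite.map_g_eq_zero_iff (shortExact_toAb hS) q x).1 (h.elim _ _)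

include hS in
lemma surjective_g_of_injective (q : ℕ) (h : Function.Injective (hhMap k S.f (q + 1))) :
    Function.Surjective (hhMap k S.g q) := by
  intro y
  refine (CohFinite.δH_eq_zero_iff (shortExact_toAb hS) q y).1 (h ?_)
  rw [map_zero]
  exact (CohFinite.map_f_eq_zero_iff (shortExact_toAb hS) q _).2 ⟨y, rfl⟩

end Linear

/-- `h^1` of the twists. -/
abbrev a (F : (CohB1.ProjSpace n k).Modules) (j : ℤ) : ℕ :=
  Module.finrank k (Coh.HH (CohB1.ProjSpace n k) (tw F j) 1)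

variable {S : ShortComplex (CohB1.ProjSpace n k).Modules} (hS : S.ShortExact)
  (e₁ : S.X₁ ≅ tw S.X₂ (-1)) (h₂ : Coh.IsCoh S.X₂) (h₃ : Coh.IsCoh S.X₃) {m : ℤ}
  (hm : Curv2.IsMRegular k n S.X₃ m)

include e₁ in
lemma nonempty_hh_X1 (j : ℤ) (q : ℕ) : Nonempty (Coh.HH (CohB1.ProjSpace n k) (tw S.X₁ j) q ≃ₗ[k]
    Coh.HH (CohB1.ProjSpace n k) (tw S.X₂ (j - 1)) q) := by
  obtain ⟨e⟩ := nonempty_tw_tw S.X₂ (-1) j (j - 1) (by ring)
  exact ⟨hhEquiv k (PicGrp.tensorModIso e₁ (Iso.refl _) ≪≫ e) q⟩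

include h₃ hm in
lemma vanish₃ (q : ℕ) (j : ℤ) (hq : 1 ≤ q) (hj : m - q ≤ j) :
    Subsingleton (Coh.HH (CohB1.ProjSpace n k) (tw S.X₃ j) q) :=
  SerrePn.vanish_of_regular _ h₃ m hm q j hq hj

include hS e₁ h₂ h₃ hm in
/-- The higher vanishing. -/
theorem vanish_two (i : ℕ) (j : ℤ) (hi : 2 ≤ i) (hj : m - i ≤ j) :
    Subsingleton (Coh.HH (CohB1.ProjSpace n k) (tw S.X₂ j) i) := by
  obtain ⟨N, hN⟩ := exists_vanish S.X₂ h₂
  suffices key : ∀ d : ℕ, ∀ j : ℤ, m - i ≤ j → N ≤ j + d →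
      Subsingleton (Coh.HH (CohB1.ProjSpace n k) (tw S.X₂ j) i) from key (N - j).toNat j hj (by omega)
  intro d
  induction d with
  | zero => exact fun j _ h => hN j (by omega) i (by omega)
  | succ d ih =>
    intro j hj h
    obtain ⟨p, rfl⟩ : ∃ p, i = p + 1 := ⟨i - 1, by omega⟩
    have hsT := shortExact_twS hS (j + 1)
    haveI := vanish₃ h₃ hm p (j + 1) (by omega) (by push_cast at hj; omega)
    have hinj := injective_succ (k := k) hsT p fun y => ⟨0, Subsingleton.elim _ _⟩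
    haveI := ih (j + 1) (by omega) (by push_cast at h; omega)
    obtain ⟨e⟩ := nonempty_hh_X1 e₁ (j + 1) (p + 1)
    rw [add_sub_cancel_right] at e
    exact (hinj.comp e.symm.injective).subsingleton

include hS e₁ h₂ h₃ hm in
/-- `h^1` decreases. -/
theorem a_le (j : ℤ) (hj : m - 1 ≤ j) : a S.X₂ j ≤ a S.X₂ (j - 1) := by
  obtain ⟨e⟩ := nonempty_hh_X1 e₁ j 1
  haveI := CohFinite.finite_projSpace n k _ (isCoh_tw h₂ (j - 1)) 1
  exact LinearMap.finrank_le_finrank_of_surjective ((surjective_f (k := k) (shortExact_twS hS j) 1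
    (vanish₃ h₃ hm 1 j le_rfl hj)).comp e.symm.surjective)
    (f := (hhMap k (tmap S.f (Twist.twistProjSpace n k j)) 1) ∘ₗ e.symm.toLinearMap)

include hS e₁ h₂ h₃ hm in
/-- Once `h^1` is constant, it is zero. -/
theorem a_eq_zero_of_eq (j : ℤ) (hj : m ≤ j) (h : a S.X₂ j = a S.X₂ (j - 1)) : a S.X₂ j = 0 := by
  obtain ⟨e⟩ := nonempty_hh_X1 e₁ j 1
  haveI := CohFinite.finite_projSpace n k _ (isCoh_tw h₂ (j - 1)) 1
  haveI := CohFinite.finite_projSpace n k _ (isCoh_tw h₂ j) 1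
  let φ : Coh.HH (CohB1.ProjSpace n k) (tw S.X₂ (j - 1)) 1 →ₗ[k] Coh.HH (CohB1.ProjSpace n k) (tw S.X₂ j) 1 :=
    (hhMap k (tmap S.f (Twist.twistProjSpace n k j)) 1) ∘ₗ e.symm.toLinearMap
  have hs : Function.Surjective φ := (surjective_f (k := k) (shortExact_twS hS j) 1
    (vanish₃ h₃ hm 1 j le_rfl (by push_cast; omega))).comp e.symm.surjective
  have hi : Function.Injective φ := (LinearMap.injective_iff_surjective_of_finrank_eq_finrank h.symm).2 hs
  have hsec : Function.Surjective ((tmap S.g (Twist.twistProjSpace n k j)).app ⊤) := by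
    refine surjective_app_of_h0 (k := k) _ (surjective_g_of_injective (k := k) (shortExact_twS hS j) 0 ?_)
    intro x y hxy
    obtain ⟨x, rfl⟩ := e.symm.surjective x
    obtain ⟨y, rfl⟩ := e.symm.surjective y
    exact congrArg _ (hi hxy)
  have hreg : Curv2.IsMRegular k n (tw S.X₃ j) 0 := by
    obtain ⟨d, rfl⟩ : ∃ d : ℕ, j = m + d := ⟨(j - m).toNat, by omega⟩
    have := Mumford.regular_twist (Mumford.regular_add S.X₃ h₃ m hm d) (m + d)
    rwa [sub_self] at this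
  have hge : ∀ d : ℕ, a S.X₂ (j + (d : ℤ) - 1) ≤ a S.X₂ (j + d) := by
    intro d
    have hT := shortExact_twS (shortExact_twS hS j) (d : ℤ)
    have hsur : Function.Surjective ((tmap (tmap S.g (Twist.twistProjSpace n k j))
        (Twist.twistProjSpace n k (d : ℤ))).app ⊤) := by
      intro z
      obtain ⟨p, rfl⟩ := Mumford.surjective_all (tw S.X₃ j) (isCoh_tw h₃ j) hreg d z
      induction p using TensorProduct.induction_on with
      | zero => exact ⟨0, by rw [map_zero, map_zero]⟩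
      | tmul g b =>
        obtain ⟨f, rfl⟩ := hsec g
        exact ⟨TMul.tm f b, (tmap_tm _ _ _ _).trans (TMul.tt_tmul _ _).symm⟩
      | add p q hp hq =>
        obtain ⟨v, hv⟩ := hp
        obtain ⟨w, hw⟩ := hq
        exact ⟨v + w, by rw [map_add, map_add, hv, hw]⟩
    have hinj := injective_succ (k := k) hT 0 (surjective_h0 (k := k) _ hsur)
    obtain ⟨E1⟩ := nonempty_tw_tw S.X₁ j (d : ℤ) (j + d) rfl
    obtain ⟨E2⟩ := nonempty_tw_tw S.X₂ j (d : ℤ) (j + d) rfl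
    obtain ⟨e'⟩ := nonempty_hh_X1 e₁ (j + d) 1
    haveI := CohFinite.finite_projSpace n k _ (isCoh_tw h₂ (j + d)) 1
    exact LinearMap.finrank_le_finrank_of_injective
      (f := (hhEquiv k E2 1).toLinearMap ∘ₗ (hhMap k (tmap (tmap S.f (Twist.twistProjSpace n k j))
        (Twist.twistProjSpace n k (d : ℤ))) 1) ∘ₗ ((e'.symm.trans (hhEquiv k E1 1).symm).toLinearMap))
      ((hhEquiv k E2 1).injective.comp (hinj.comp (e'.symm.trans (hhEquiv k E1 1).symm).injective))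
  have hmono : ∀ d : ℕ, a S.X₂ j ≤ a S.X₂ (j + d) := by
    intro d
    induction d with
    | zero => simp
    | succ d ih =>
      have := hge (d + 1)
      rw [show j + ((d + 1 : ℕ) : ℤ) - 1 = j + d by push_cast; ring] at this
      exact ih.trans this
  obtain ⟨N, hN⟩ := exists_vanish S.X₂ h₂
  haveI := hN (j + (N - j).toNat) (by omega) 1 le_rfl
  have := (hmono (N - j).toNat).trans_eq (Module.finrank_zero_of_subsingleton)
  omega

include hS e₁ h₂ h₃ hm in
theorem a_bound : ∀ s : ℕ, a S.X₂ (m - 1 + s) ≤ a S.X₂ (m - 1) - s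
  | 0 => by simp
  | s + 1 => by
    have ih := a_bound s
    have h1 := a_le hS e₁ h₂ h₃ hm (m - 1 + ((s + 1 : ℕ) : ℤ)) (by omega)
    rw [show m - 1 + ((s + 1 : ℕ) : ℤ) - 1 = m - 1 + s by push_cast; ring] at h1
    by_cases h : a S.X₂ (m - 1 + ((s + 1 : ℕ) : ℤ)) = a S.X₂ (m - 1 + s)
    · have := a_eq_zero_of_eq hS e₁ h₂ h₃ hm (m - 1 + ((s + 1 : ℕ) : ℤ)) (by omega)
        (by rw [h]; congr 1; push_cast; ring)
      omega
    · omega

include hS e₁ h₂ h₃ hm in
theorem vanish_one (j : ℤ) (hj : m - 1 + (a S.X₂ (m - 1) : ℤ) ≤ j) :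
    Subsingleton (Coh.HH (CohB1.ProjSpace n k) (tw S.X₂ j) 1) := by
  obtain ⟨s, rfl⟩ : ∃ s : ℕ, j = m - 1 + s := ⟨(j - (m - 1)).toNat, by omega⟩
  haveI := CohFinite.finite_projSpace n k _ (isCoh_tw h₂ (m - 1 + (s : ℤ))) 1
  have := a_bound hS e₁ h₂ h₃ hm s
  exact Module.finrank_zero_iff.1 (show a S.X₂ (m - 1 + (s : ℤ)) = 0 by omega)

include hS e₁ h₂ h₃ hm in
theorem main : (∀ (i : ℕ) (j : ℤ), 2 ≤ i → m - i ≤ j →
      Subsingleton (Coh.HH (CohB1.ProjSpace n k) (tw S.X₂ j) i)) ∧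
    (∀ j : ℤ, m - 1 ≤ j → a S.X₂ j ≤ a S.X₂ (j - 1)) ∧
    (∀ j : ℤ, m - 1 + (a S.X₂ (m - 1) : ℤ) ≤ j → Subsingleton (Coh.HH (CohB1.ProjSpace n k) (tw S.X₂ j) 1)) ∧
    ∀ q : ℕ, 1 ≤ q → Subsingleton (Coh.HH (CohB1.ProjSpace n k) (tw S.X₂ (m + (a S.X₂ (m - 1) : ℕ) - q)) q) := by
  refine ⟨vanish_two hS e₁ h₂ h₃ hm, a_le hS e₁ h₂ h₃ hm, vanish_one hS e₁ h₂ h₃ hm, fun q hq => ?_⟩
  rcases eq_or_lt_of_le hq with rfl | hq
  · exact vanish_one hS e₁ h₂ h₃ hm _ (by push_cast; omega)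
  · exact vanish_two hS e₁ h₂ h₃ hm q _ hq (by omega)

end Groth.Agent.ExtTwist
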