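import Groth.Agent.GrT.TildeMap
import Groth.Agent.GrSyzMin.Grading
import Groth.Agent.CohFinite.Serre
import Groth.Agent.CohQC.QuasiAffine
import Groth.Agent.QC.Closure
import Groth.Agent.Devissage.Power
import Groth.Prelude.Def_Curv2
import Groth.Agent.GrT.TwistPS

/-!
The sheaf attached to a graded module of regularity at most `d` is `d`-regular.
-/

set_option autoImplicit false
set_option linter.unusedSectionVars false
set_option linter.style.haveILetI false
set_option backward.isDefEq.respectTransparency false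

universe u

open CategoryTheory CategoryTheory.Limits AlgebraicGeometry
open Groth.Agent.GrSyzHilb

noncomputable section

namespace Groth.Agent.RegTilde

attribute [local instance] Abelian.hasFiniteBiproducts

variable {k : Type u} [Field k] {r : ℕ}


lemma mem_std_of_poly {m : ℕ} {p : (MvPolynomial (Fin (r + 1)) k)} (hp : p ∈ (CohB1.polyGrading r k) m) : p ∈ (GrSyz.stdGr k (Fin (r + 1))) (m : ℤ) := by
  intro e he
  have h := hp he
  rw [weight_one]
  rw [Finsupp.weight_apply, Finsupp.sum_fintype _ _ (by simp)] at h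
  exact_mod_cast (by simpa using h : (∑ i, e i) = m)

lemma mem_poly_of_std {m : ℕ} {p : (MvPolynomial (Fin (r + 1)) k)} (hp : p ∈ (GrSyz.stdGr k (Fin (r + 1))) (m : ℤ)) : p ∈ (CohB1.polyGrading r k) m := by
  intro e he
  have h := hp he
  rw [weight_one] at h
  rw [Finsupp.weight_apply, Finsupp.sum_fintype _ _ (by simp)]
  simpa using (Nat.cast_inj (R := ℤ)).1 h

/-- A homogeneous element avoiding a prime annihilates. -/
lemma exists_homog_ann {N : Type u} [AddCommGroup N] [Module k N] [Module (MvPolynomial (Fin (r + 1)) k) N] (𝒩 : ℤ → Submodule k N)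
    [DirectSum.Decomposition 𝒩] [SetLike.GradedSMul (GrSyz.stdGr k (Fin (r + 1))) 𝒩] (i : ℕ) (z : N) (hz : z ∈ 𝒩 (i : ℤ))
    (x : ProjectiveSpectrum (CohB1.polyGrading r k)) (v : (MvPolynomial (Fin (r + 1)) k)) (hv : v ∉ x.asHomogeneousIdeal) (hvz : v • z = 0) :
    ∃ (d : ℕ) (v' : (MvPolynomial (Fin (r + 1)) k)), v' ∈ (CohB1.polyGrading r k) d ∧ v' ∉ x.asHomogeneousIdeal ∧ v' • z = 0 := by
  classical
  obtain ⟨d, hd⟩ := GrT.exists_cmp_not_mem (CohB1.polyGrading r k) hv
  refine ⟨d, GrT.cmp (CohB1.polyGrading r k) v d, GrT.cmp_mem (CohB1.polyGrading r k) v d, hd, ?_⟩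
  have h := congrArg (comp 𝒩 ((d : ℤ) + i)) hvz
  rw [map_zero] at h
  rw [← h]
  conv_rhs => rw [← DirectSum.sum_support_decompose (CohB1.polyGrading r k) v, Finset.sum_smul, map_sum]
  rw [Finset.sum_eq_single d]
  · rw [comp_smul (A := (GrSyz.stdGr k (Fin (r + 1)))) _ (mem_std_of_poly (DirectSum.decompose (CohB1.polyGrading r k) v d).2), add_sub_cancel_left, comp_of_mem 𝒩 hz]

  · intro j _ hj
    rw [comp_smul (A := (GrSyz.stdGr k (Fin (r + 1)))) _ (mem_std_of_poly (DirectSum.decompose (CohB1.polyGrading r k) v j).2),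
      comp_of_mem_ne 𝒩 hz (by omega), smul_zero]
  · intro hnot
    refine absurd ?_ hd
    rw [GrT.cmp, DFinsupp.notMem_support_iff.1 hnot]
    exact zero_mem _

variable {M : Type u} [AddCommGroup M] [Module k M] [Module (MvPolynomial (Fin (r + 1)) k) M] [IsScalarTower k (MvPolynomial (Fin (r + 1)) k) M]
  {ℳ : ℤ → Submodule k M} [DirectSum.Decomposition ℳ] [SetLike.GradedSMul (GrSyz.stdGr k (Fin (r + 1))) ℳ]
  [SetLike.GradedSMul (CohB1.polyGrading r k) (fun n : ℕ => ℳ (n : ℤ))]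
  (F : GrSyz.FreeRes (GrSyz.stdGr k (Fin (r + 1))) ℳ)

/-- The pieces of non-negative degree of a term. -/
def fp (i : ℕ) : ℕ → Submodule k (Fin (F.rk i) → (MvPolynomial (Fin (r + 1)) k)) := fun j => piece F i (j : ℤ)

instance fpGradedSMul (i : ℕ) : SetLike.GradedSMul (CohB1.polyGrading r k) (fp F i) where
  smul_mem {a j p v} hp hv := (mem_piece F).2 fun b => by
    have := SetLike.mul_mem_graded (mem_std_of_poly hp) ((mem_piece F).1 hv b)
    rw [vadd_eq_add, Nat.cast_add, add_sub_assoc]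
    exact this

/-- The sheaf of a term. -/
abbrev Ft (i : ℕ) : (CohB1.ProjSpace r k).Modules := GrTilde.tilde (CohB1.polyGrading r k) (fp F i) 0

lemma shift_d (i : ℕ) : GrT.Shift (fp F (i + 1)) (fp F i) (F.dLin i) 0 0 :=
  fun a b h v hv => Or.inr ⟨a, h, d_mem_piece F hv⟩

lemma shift_aug : GrT.Shift (fp F 0) (fun n : ℕ => ℳ (n : ℤ)) F.augLin 0 0 :=
  fun a b h v hv => Or.inr ⟨a, h, aug_mem_piece F hv⟩

/-- The differential of sheaves. -/
abbrev dT (i : ℕ) : Ft F (i + 1) ⟶ Ft F i := GrT.mapTilde (CohB1.polyGrading r k) (shift_d F i)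

/-- The augmentation of sheaves. -/
abbrev augT : Ft F 0 ⟶ GrTilde.tilde (CohB1.polyGrading r k) (fun n : ℕ => ℳ (n : ℤ)) 0 := GrT.mapTilde (CohB1.polyGrading r k) (shift_aug F)

lemma d_comp_d (i : ℕ) : F.dLin i ∘ₗ F.dLin (i + 1) = 0 := LinearMap.ext fun v => by
  have : F.dLin (i + 1) v ∈ LinearMap.ker (F.dLin i) := by rw [F.exact_succ i]; exact ⟨v, rfl⟩
  exact this

lemma aug_comp_d : F.augLin ∘ₗ F.dLin 0 = 0 := LinearMap.ext fun v => by
  have : F.dLin 0 v ∈ LinearMap.ker F.augLin := by rw [F.exact_zero]; exact ⟨v, rfl⟩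
  exact this

lemma shift_zero {N N' : Type u} [AddCommGroup N] [Module k N] [Module (MvPolynomial (Fin (r + 1)) k) N] [AddCommGroup N'] [Module k N']
    [Module (MvPolynomial (Fin (r + 1)) k) N'] (𝒩 : ℕ → Submodule k N) (𝒩' : ℕ → Submodule k N') {f : N →ₗ[(MvPolynomial (Fin (r + 1)) k)] N'} (hf : f = 0) (a b : ℤ) :
    GrT.Shift 𝒩 𝒩' f a b := fun _ _ _ m _ => Or.inl (by rw [hf]; rfl)

lemma dT_comp (i : ℕ) : dT F (i + 1) ≫ dT F i = 0 := by
  rw [GrT.mapTilde_comp (CohB1.polyGrading r k) _ _ (shift_zero _ _ (d_comp_d F i) 0 0), GrT.mapTilde_eq_zero (CohB1.polyGrading r k) _ (d_comp_d F i)]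

lemma augT_comp : dT F 0 ≫ augT F = 0 := by
  rw [GrT.mapTilde_comp (CohB1.polyGrading r k) _ _ (shift_zero _ _ (aug_comp_d F) 0 0), GrT.mapTilde_eq_zero (CohB1.polyGrading r k) _ (aug_comp_d F)]

lemma exact_d (i : ℕ) : (ShortComplex.mk _ _ (dT_comp F i)).Exact := by
  refine GrT.exact_mapTilde (CohB1.polyGrading r k) _ _ (d_comp_d F i) (fun j z hz h0 => ?_) ?_ _
  · have h : z ∈ LinearMap.range (F.dLin (i + 1)) := by rw [← F.exact_succ i]; exact h0
    obtain ⟨y, rfl⟩ := h
    exact ⟨trunc F (i + 1 + 1) j y, trunc_mem F _ _ _, by rw [← trunc_d, trunc_of_mem F hz]⟩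
  · haveI : DirectSum.Decomposition (piece F i) := GrSyzMin.vecDecomposition (F.deg i)
    haveI : SetLike.GradedSMul (GrSyz.stdGr k (Fin (r + 1))) (piece F i) := GrSyzMin.vecGradedSMul (F.deg i)
    exact fun j z hz x v hv hvz => exists_homog_ann (piece F i) j z hz x v hv hvz

lemma exact_aug : (ShortComplex.mk _ _ (augT_comp F)).Exact := by
  refine GrT.exact_mapTilde (CohB1.polyGrading r k) _ _ (aug_comp_d F) (fun j z hz h0 => ?_)
    (fun j z hz x v hv hvz => exists_homog_ann ℳ j z hz x v hv hvz) _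
  have h : z ∈ LinearMap.range (F.dLin 0) := by rw [← F.exact_zero]; exact h0
  obtain ⟨y, rfl⟩ := h
  exact ⟨trunc F 1 j y, trunc_mem F _ _ _, by rw [← trunc_d, trunc_of_mem F hz]⟩

instance epi_augT : Epi (augT F) := by
  refine GrT.epi_mapTilde (CohB1.polyGrading r k) _ fun j z hz => ?_
  obtain ⟨y, rfl⟩ := F.aug_surjective z
  exact ⟨trunc F 0 j y, trunc_mem F _ _ _, by rw [← comp_aug, comp_of_mem ℳ hz]⟩

/-- The summands of a term. -/
abbrev Tw (i : ℕ) (b : Fin (F.rk i)) : (CohB1.ProjSpace r k).Modules := GrTilde.tilde (CohB1.polyGrading r k) (CohB1.polyGrading r k) (-F.deg i b)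

lemma shift_proj (i : ℕ) (b : Fin (F.rk i)) :
    GrT.Shift (fp F i) (CohB1.polyGrading r k) (LinearMap.proj b : (Fin (F.rk i) → (MvPolynomial (Fin (r + 1)) k)) →ₗ[(MvPolynomial (Fin (r + 1)) k)] (MvPolynomial (Fin (r + 1)) k)) 0 (-F.deg i b) := by
  intro a c h v hv
  have hb : v b ∈ (GrSyz.stdGr k (Fin (r + 1))) ((a : ℤ) - F.deg i b) := (mem_piece F).1 hv b
  by_cases hneg : (a : ℤ) - F.deg i b < 0
  · exact Or.inl (GrSyzMin.eq_zero_of_deg_neg hneg hb)
  · refine Or.inr ⟨((a : ℤ) - F.deg i b).toNat, by omega, mem_poly_of_std ?_⟩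
    rwa [Int.toNat_of_nonneg (by omega)]

lemma shift_single (i : ℕ) (b : Fin (F.rk i)) :
    GrT.Shift (CohB1.polyGrading r k) (fp F i) (LinearMap.single (MvPolynomial (Fin (r + 1)) k) (fun _ : Fin (F.rk i) => (MvPolynomial (Fin (r + 1)) k)) b) (-F.deg i b) 0 := by
  intro a c h v hv
  refine Or.inr ⟨c, by omega, (mem_piece F).2 fun b' => ?_⟩
  by_cases hb : b' = b
  · subst hb
    rw [LinearMap.single_apply, Pi.single_eq_same, show (c : ℤ) - F.deg i b' = (a : ℤ) by omega]
    exact mem_std_of_poly hv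
  · rw [LinearMap.single_apply, Pi.single_eq_of_ne hb]
    exact zero_mem _

/-- `F_i~` is a sum of twists. -/
def splitProj (i : ℕ) (b : Fin (F.rk i)) : Ft F i ⟶ Tw F i b := GrT.mapTilde (CohB1.polyGrading r k) (shift_proj F i b)

/-- `F_i~` is a sum of twists. -/
def splitIncl (i : ℕ) (b : Fin (F.rk i)) : Tw F i b ⟶ Ft F i := GrT.mapTilde (CohB1.polyGrading r k) (shift_single F i b)

lemma split_total (i : ℕ) : ∑ b, splitProj F i b ≫ splitIncl F i b = 𝟙 (Ft F i) := by
  classical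
  have hid : GrT.Shift (fp F i) (fp F i) (LinearMap.id : (Fin (F.rk i) → (MvPolynomial (Fin (r + 1)) k)) →ₗ[(MvPolynomial (Fin (r + 1)) k)] _) 0 0 :=
    fun a c h v hv => Or.inr ⟨a, h, hv⟩
  have hc : ∀ b : Fin (F.rk i), GrT.Shift (fp F i) (fp F i)
      ((LinearMap.single (MvPolynomial (Fin (r + 1)) k) (fun _ : Fin (F.rk i) => (MvPolynomial (Fin (r + 1)) k)) b) ∘ₗ LinearMap.proj b) 0 0 := by
    intro b a c h v hv
    refine Or.inr ⟨a, h, (mem_piece F).2 fun b' => ?_⟩
    by_cases hb : b' = b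
    · subst hb; simpa using (mem_piece F).1 hv b'
    · simp [Pi.single_eq_of_ne hb]
  simp only [splitProj, splitIncl]
  rw [← GrT.mapTilde_id (CohB1.polyGrading r k) hid, GrT.mapTilde_sum (CohB1.polyGrading r k) Finset.univ hid _ hc]
  · exact Finset.sum_congr rfl fun b _ => GrT.mapTilde_comp (CohB1.polyGrading r k) _ _ (hc b)
  · exact LinearMap.ext fun v => by simp [LinearMap.sum_apply, Finset.univ_sum_single]

lemma incl_proj (i : ℕ) (b b' : Fin (F.rk i)) :
    splitIncl F i b ≫ splitProj F i b' = if h : b = b' then eqToHom (by rw [h]) else 0 := by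
  by_cases hb : b = b'
  · subst hb
    rw [dif_pos rfl, eqToHom_refl]
    have hid : GrT.Shift (CohB1.polyGrading r k) (CohB1.polyGrading r k) (LinearMap.id : (MvPolynomial (Fin (r + 1)) k) →ₗ[(MvPolynomial (Fin (r + 1)) k)] (MvPolynomial (Fin (r + 1)) k)) (-F.deg i b) (-F.deg i b) :=
      fun a c h v hv => Or.inr ⟨a, h, hv⟩
    have he : (LinearMap.proj b : (Fin (F.rk i) → (MvPolynomial (Fin (r + 1)) k)) →ₗ[(MvPolynomial (Fin (r + 1)) k)] (MvPolynomial (Fin (r + 1)) k)) ∘ₗ LinearMap.single (MvPolynomial (Fin (r + 1)) k) (fun _ => (MvPolynomial (Fin (r + 1)) k)) b = LinearMap.id :=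
      LinearMap.ext fun v => by simp
    rw [splitIncl, splitProj, GrT.mapTilde_comp (CohB1.polyGrading r k) _ _ (he ▸ hid)]
    simp only [he]
    exact GrT.mapTilde_id (CohB1.polyGrading r k) hid
  · rw [dif_neg hb]
    have he : (LinearMap.proj b' : (Fin (F.rk i) → (MvPolynomial (Fin (r + 1)) k)) →ₗ[(MvPolynomial (Fin (r + 1)) k)] (MvPolynomial (Fin (r + 1)) k)) ∘ₗ LinearMap.single (MvPolynomial (Fin (r + 1)) k) (fun _ => (MvPolynomial (Fin (r + 1)) k)) b = 0 :=
      LinearMap.ext fun v => by simp [Pi.single_eq_of_ne (Ne.symm hb)]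
    rw [splitIncl, splitProj, GrT.mapTilde_comp (CohB1.polyGrading r k) _ _ (shift_zero _ _ he _ _), GrT.mapTilde_eq_zero (CohB1.polyGrading r k) _ he]

lemma isQCoh_Ft (i : ℕ) : Coh.IsQCoh (Ft F i) := by
  refine Groth.Agent.QC.isQCoh_of_iso (X := CohB1.ProjSpace r k) (?_ : ⨁ Tw F i ≅ Ft F i)
    (Devissage.isCoh_biproduct (Tw F i) fun b => CohFinite.isCoh_twist r k _).1
  refine ⟨biproduct.desc (splitIncl F i), biproduct.lift (splitProj F i), ?_, ?_⟩
  · refine biproduct.hom_ext' _ _ fun b => biproduct.hom_ext _ _ fun b' => ?_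
    rw [Category.comp_id, biproduct.ι_desc_assoc, Category.assoc, biproduct.lift_π, biproduct.ι_π, incl_proj]

  · rw [biproduct.lift_desc]
    exact split_total F i

lemma hh_Ft (i : ℕ) {q : ℕ} (hq : 1 ≤ q) (c : ℤ) (hc : ∀ b, F.deg i b ≤ c + q) :
    Subsingleton (Coh.HH (CohB1.ProjSpace r k) (CohB1.tensorMod (Ft F i) (Twist.twistProjSpace r k c)) q) := by
  refine CohFinite.subsingleton_of_split _ (fun b => CohB1.tensorMod (Tw F i b) (Twist.twistProjSpace r k c))
    (fun b => CohFinite.tmap (splitIncl F i b) _) (fun b => CohFinite.tmap (splitProj F i b) _) ?_ q fun b => ?_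
  · simp only [← CohFinite.tmap_comp]
    exact (CohFinite.tmap_sum _ _ _).symm.trans ((congrArg (fun ψ => CohFinite.tmap ψ _) (split_total F i)).trans
      (CohFinite.tmap_id _ _))
  · obtain ⟨e⟩ := GrT.nonempty_tensor_iso (a := -F.deg i b) (b := c) (c := -F.deg i b + c) (CohB1.polyGrading r k) (CohFinite.cov_one r k) rfl
    rw [GrT.twistPS_eq]
    refine CohQC.hh_subsingleton_of_iso e.symm _ ?_
    rw [← GrT.twistPS_eq]
    refine ProjCech.twist_vanish r _ q (by omega) ?_
    rintro ⟨rfl, h⟩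
    have := hc b
    omega

/-- The cokernel of the `i`-th differential. -/
abbrev Cok (i : ℕ) : (CohB1.ProjSpace r k).Modules := cokernel (dT F i)

/-- The short exact sequence of the cokernels. -/
def cokSES (i : ℕ) : ShortComplex (CohB1.ProjSpace r k).Modules :=
  ShortComplex.mk (cokernel.desc (dT F (i + 1)) (dT F i) (dT_comp F i)) (cokernel.π (dT F i)) (by
    rw [← cancel_epi (cokernel.π (dT F (i + 1))), cokernel.π_desc_assoc, cokernel.condition, comp_zero])

lemma cokSES_shortExact (i : ℕ) : (cokSES F i).ShortExact where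
  exact := by
    let S₁ := ShortComplex.mk (dT F i) (cokernel.π (dT F i)) (cokernel.condition _)
    let φ : S₁ ⟶ cokSES F i :=
      { τ₁ := cokernel.π (dT F (i + 1))
        τ₂ := 𝟙 _
        τ₃ := 𝟙 _
        comm₁₂ := by simp [cokSES, S₁]
        comm₂₃ := by simp [cokSES, S₁] }
    haveI : Epi φ.τ₁ := inferInstanceAs (Epi (cokernel.π (dT F (i + 1))))
    haveI : IsIso φ.τ₂ := inferInstanceAs (IsIso (𝟙 _))
    haveI : Mono φ.τ₃ := inferInstanceAs (Mono (𝟙 _))
    exact (ShortComplex.exact_iff_of_epi_of_isIso_of_mono φ).1 (ShortComplex.exact_cokernel _)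
  mono_f := (exact_d F i).mono_cokernelDesc
  epi_g := inferInstanceAs (Epi (cokernel.π _))

theorem hh_Cok (d : ℤ) (hgen : F.IsGenLE d) : ∀ (m q i : ℕ), r < q + m → 1 ≤ q →
    Subsingleton (Coh.HH (CohB1.ProjSpace r k)
      (CohB1.tensorMod (Cok F i) (Twist.twistProjSpace r k (d + i - q))) q) := by
  intro m
  induction m with
  | zero =>
    intro q i hq _
    have : Coh.IsQCoh (Cok F i) := Groth.Agent.QC.isQCoh_cokernel (isQCoh_Ft F _) (isQCoh_Ft F _) _
    have : Coh.IsQCoh (CohB1.tensorMod (Cok F i) (Twist.twistProjSpace r k (d + i - q))) :=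
      TMul.isQCoh_tensor (CohFinite.isInvertible_twist r k _) (hF := this)
    exact Groth.Agent.S0022.result r k _ q (by omega)
  | succ m ih =>
    intro q i hq h1
    refine CohFinite.subsingleton_of_shortExact
      (CohFinite.shortExact_tmap (CohFinite.isInvertible_twist r k (d + i - q)) (cokSES_shortExact F i)) q
      (hh_Ft F i h1 _ fun b => ?_) ?_
    · have := hgen i b
      omega
    · have h := ih (q + 1) (i + 1) (by omega) (by omega)
      rwa [show d + ((i + 1 : ℕ) : ℤ) - ((q + 1 : ℕ) : ℤ) = d + i - q by push_cast; ring] at h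

theorem main (d : ℤ) (hgen : F.IsGenLE d) :
    Curv2.IsMRegular k r (GrTilde.tilde (CohB1.polyGrading r k) (fun n : ℕ => ℳ (n : ℤ)) 0) d := by
  intro q hq _
  let e : Cok F 0 ≅ GrTilde.tilde (CohB1.polyGrading r k) (fun n : ℕ => ℳ (n : ℤ)) 0 :=
    (cokernelIsCokernel (dT F 0)).coconePointUniqueUpToIso (exact_aug F).gIsCokernel
  have h := hh_Cok F d hgen (r + 1) q 0 (by omega) hq
  rw [Nat.cast_zero, add_zero] at h
  exact CohQC.hh_subsingleton_of_iso (PicGrp.tensorModIso e (Iso.refl _)) _ h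

end Groth.Agent.RegTilde
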