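import Groth.Agent.RegTilde.DRegular
import Groth.Agent.S0022

/-!
`d`-regularity of a graded module is equivalent to regularity of the sheaf, absence of torsion
above `d` and surjectivity onto the sections at `d`.
-/

set_option autoImplicit false
set_option linter.unusedSectionVars false
set_option linter.style.haveILetI false
set_option backward.isDefEq.respectTransparency false
set_option maxHeartbeats 400000

universe u

open CategoryTheory CategoryTheory.Limits AlgebraicGeometry Opposite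
open Groth.Agent.GrSyzHilb Groth.Agent.GrSyzMin

noncomputable section

namespace Groth.Agent.RegGlobal

variable {k : Type u} [Field k] {r : ℕ}

local notation "𝒜" => CohB1.polyGrading r k
local notation "𝔖" => GrSyz.stdGr k (Fin (r + 1))

variable {M : Type u} [AddCommGroup M] [Module k M] [Module (MvPolynomial (Fin (r + 1)) k) M]
  [IsScalarTower k (MvPolynomial (Fin (r + 1)) k) M] {ℳ : ℤ → Submodule k M} [DirectSum.Decomposition ℳ]
  [SetLike.GradedSMul (GrSyz.stdGr k (Fin (r + 1))) ℳ]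
  (F : GrSyz.FreeRes (GrSyz.stdGr k (Fin (r + 1))) ℳ)

/-- The `i`-th syzygy module. -/
abbrev syz (i : ℕ) : Submodule (MvPolynomial (Fin (r + 1)) k) (Fin (F.rk i) → MvPolynomial (Fin (r + 1)) k) :=
  LinearMap.range (F.dLin i)

/-- Its pieces. -/
abbrev syzGr (i : ℕ) : ℤ → Submodule k ↥(syz F i) := subGr (vec (k := k) (n := r + 1) (F.deg i)) (syz F i)

lemma homog_syz (i : ℕ) : Homog (vec (k := k) (n := r + 1) (F.deg i)) (syz F i) := by
  rintro _ ⟨v, rfl⟩ e
  refine ⟨comp (vec (k := k) (n := r + 1) (F.deg (i + 1))) e v, ?_⟩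
  rw [dLin_eq, comp_lc _ (col_mem F i) e v]

/-- The columns, as syzygies. -/
def colK (i : ℕ) (b : Fin (F.rk (i + 1))) : ↥(syz F i) :=
  ⟨col F i b, Pi.single b 1, by rw [dLin_eq, Fintype.linearCombination_apply_single, one_smul]⟩

lemma coe_lc_colK (i : ℕ) (v : Fin (F.rk (i + 1)) → MvPolynomial (Fin (r + 1)) k) :
    ((Fintype.linearCombination (MvPolynomial (Fin (r + 1)) k) (colK F i) v : ↥(syz F i)) :
      Fin (F.rk i) → MvPolynomial (Fin (r + 1)) k) = F.dLin i v := by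
  rw [dLin_eq, Fintype.linearCombination_apply, Fintype.linearCombination_apply, AddSubmonoidClass.coe_finsetSum]
  rfl

lemma colK_surjective (i : ℕ) :
    Function.Surjective (Fintype.linearCombination (MvPolynomial (Fin (r + 1)) k) (colK F i)) := by
  rintro ⟨w, v, rfl⟩
  exact ⟨v, Subtype.ext (coe_lc_colK F i v)⟩

lemma relK_colK (i : ℕ) : relK (k := k) r (colK F i) = syz F (i + 1) := by
  refine Eq.trans ?_ (F.exact_succ i)
  ext v
  rw [LinearMap.mem_ker, LinearMap.mem_ker, ← Submodule.coe_eq_zero, coe_lc_colK]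

lemma colK_irred (hF : F.IsMinimal (GrSyz.irrel 𝔖).toIdeal) (i : ℕ) :
    Irred (k := k) (n := r + 1) (colK F i) :=
  irred_of_cst fun v hv b => cst_of_lc_eq_zero (vec (k := k) (n := r + 1) (F.deg i)) (col_mem F i)
    ((irred_of_isMinimal hF).2 i) (v := v) (by
      rw [← dLin_eq, ← coe_lc_colK, hv, Submodule.coe_zero]) b

lemma Hyp.congr {m : ℕ} {deg : Fin m → ℤ}
    {K K' : Submodule (MvPolynomial (Fin (r + 1)) k) (Fin m → MvPolynomial (Fin (r + 1)) k)} (h : K = K') {d : ℕ}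
    (hK : Hyp r (subGr (vec (k := k) (n := r + 1) deg) K) d) : Hyp r (subGr (vec (k := k) (n := r + 1) deg) K') d := by
  subst h
  exact hK

variable [Module.Finite (MvPolynomial (Fin (r + 1)) k) M]

lemma Hyp.syz_all (hF : F.IsMinimal (GrSyz.irrel 𝔖).toIdeal) {d : ℕ} (h : Hyp r ℳ d) :
    ∀ i, (∀ b, F.deg i b ≤ (d : ℤ) + i) ∧ Hyp r (syzGr F i) (d + i + 1)
  | 0 => by
    have hdeg := h.deg_le F.aug_mem F.aug_surjective (irred_of_isMinimal hF).1
    exact ⟨fun b => by simpa using hdeg b, Hyp.congr F.exact_zero (h.step F.aug_mem F.aug_surjective hdeg)⟩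
  | i + 1 => by
    obtain ⟨-, hi⟩ := Hyp.syz_all hF h i
    letI := GrSyzMin.vecDecomposition (k := k) (n := r + 1) (F.deg i)
    letI := GrSyzMin.subDec (vec (k := k) (n := r + 1) (F.deg i)) (syz F i) (homog_syz F i)
    have hdeg := hi.deg_le (c := colK F i) (deg := F.deg (i + 1)) (col_mem F i) (colK_surjective F i) (colK_irred F hF i)
    refine ⟨fun b => ?_, Hyp.congr (relK_colK F i) (hi.step (col_mem F i) (colK_surjective F i) hdeg)⟩
    have := hdeg b
    push_cast at this ⊢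
    omega

theorem Hyp.isRegLE {d : ℕ} (h : Hyp r ℳ d) :
    GrSyz.IsRegLE 𝔖 ℳ (GrSyz.irrel 𝔖).toIdeal (d : ℤ) := by
  obtain ⟨F, hF⟩ := GrSyzMin.exists_minimal (n := r + 1) ℳ
  exact ⟨F, hF, fun i => (h.syz_all F hF i).1⟩

lemma syz_reg {d : ℤ} (hgen : F.IsGenLE d) : Reg r (syzGr F 0) (d + 1) := by
  letI := GrSyzMin.vecDecomposition (k := k) (n := r + 1) (F.deg 0)
  letI := GrSyzMin.subDec (vec (k := k) (n := r + 1) (F.deg 0)) (syz F 0) (homog_syz F 0)
  let G : GrSyz.FreeRes 𝔖 (syzGr F 0) :=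
    { rk := fun i => F.rk (i + 1)
      deg := fun i => F.deg (i + 1)
      d := fun i => F.d (i + 1)
      aug := colK F 0
      d_mem := fun i => F.d_mem (i + 1)
      aug_mem := col_mem F 0
      aug_surjective := colK_surjective F 0
      exact_zero := relK_colK F 0
      exact_succ := fun i => F.exact_succ (i + 1) }
  refine (reg_iff (ℳ := syzGr F 0) (d + 1)).2 (RegTilde.main G (d + 1) fun i b => ?_)
  have := hgen (i + 1) b
  show F.deg (i + 1) b ≤ _
  push_cast at this ⊢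
  omega

/-- Sections of the last term lift when the first cohomology of the first vanishes. -/
lemma app_surjective_of_shortExact {X : Scheme.{u}} {S : ShortComplex X.Modules} (hS : S.ShortExact)
    (h : Subsingleton (Coh.HH X S.X₁ 1)) (s : Γ(S.X₃, ⊤)) : ∃ w, S.g.app ⊤ w = s := by
  have hT : IsTerminal (⊤ : X.Opens) := isTerminalTop
  obtain ⟨y, hy⟩ := (CohFinite.δH_eq_zero_iff (CohQC.seq_shortExact hS) 0
    ((Sheaf.H.equiv₀ (Coh.toAb S.X₃) hT).symm s)).1 (h.elim _ _)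
  refine ⟨Sheaf.H.equiv₀ (Coh.toAb S.X₂) hT y, ?_⟩
  have := congrArg (Sheaf.H.equiv₀ (Coh.toAb S.X₃) hT) hy
  erw [← Sheaf.H.equiv₀_naturality, AddEquiv.apply_symm_apply] at this
  exact this

theorem surj_of_isRegLE {d : ℕ} (hF : F.IsGenLE (d : ℤ)) (s : Γ(Ts r ℳ (d : ℤ), ⊤)) :
    ∃ (z : M) (hz : z ∈ ℳ (d : ℤ)), glob r z hz = s := by
  have hg : ∀ (e : ℤ), ∀ v ∈ vec (k := k) (n := r + 1) (F.deg 0) e,
      Fintype.linearCombination (MvPolynomial (Fin (r + 1)) k) F.aug v ∈ ℳ e := fun e v hv => lc_mem ℳ F.aug_mem hv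
  have hsur : ∀ i : ℕ, ∀ z ∈ ℳ (i : ℤ), ∃ y ∈ vec (k := k) (n := r + 1) (F.deg 0) (i : ℤ),
      Fintype.linearCombination (MvPolynomial (Fin (r + 1)) k) F.aug y = z := fun i z hz =>
    GrSyzMin.exists_lift ℳ F.aug_mem hz (F.aug_surjective z)
  have hf : ∀ (e : ℤ), ∀ v ∈ syzGr F 0 e, (syz F 0).subtype v ∈ vec (k := k) (n := r + 1) (F.deg 0) e :=
    fun _ _ hv => hv
  have hgf : Fintype.linearCombination (MvPolynomial (Fin (r + 1)) k) F.aug ∘ₗ (syz F 0).subtype = 0 :=
    LinearMap.ext fun v => show v.1 ∈ LinearMap.ker _ from F.exact_zero.ge v.2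
  have hS := presSES_shortExact hf hg hgf (syz F 0).injective_subtype
    (fun i z hz h0 => ⟨⟨z, F.exact_zero.le h0⟩, hz, rfl⟩) hsur (d : ℤ)
  have hK : Subsingleton (Coh.HH (CohB1.ProjSpace r k) (Ts r (syzGr F 0) (d : ℤ)) 1) := by
    rcases Nat.eq_zero_or_pos r with hr | hr
    · letI := GrSyzMin.vecDecomposition (k := k) (n := r + 1) (F.deg 0)
      letI := GrSyzMin.subDec (vec (k := k) (n := r + 1) (F.deg 0)) (syz F 0) (homog_syz F 0)
      haveI : Coh.IsQCoh (Ts r (syzGr F 0) (d : ℤ)) := (isCoh_Ts (ℳ := syzGr F 0) (d : ℤ)).1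
      exact Groth.Agent.S0022.result r k _ 1 (by omega)
    · have h := syz_reg F hF 1 le_rfl hr
      rwa [show (d : ℤ) + 1 - ((1 : ℕ) : ℤ) = d by push_cast; ring] at h
  obtain ⟨w, rfl⟩ := app_surjective_of_shortExact hS hK s
  obtain ⟨v, hv, rfl⟩ := glob_free_surjective (F.deg 0) (n := d) (fun b => by simpa using hF 0 b) w
  exact ⟨_, hg _ v hv, (mapT_glob _ hg v hv).symm⟩

theorem hyp_iff_diagLE (E : GrLC.StarInjRes 𝔖 ℳ) (d : ℕ) : GrLCLib.DiagLE E (d : ℤ) ↔ Hyp r ℳ d := by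
  rw [GrLCLib.diagLE_iff_vanLE, GrLCLib.vanLE_iff_isRegLE]
  refine ⟨fun h => ?_, fun h => h.isRegLE⟩
  have hv := (GrLCLib.vanLE_iff_isRegLE E d).2 h
  obtain ⟨F, -, hF⟩ := h
  exact ⟨(reg_iff (d : ℤ)).2 (RegTilde.main F d hF),
    (GrLCLib.van_zero_iff_torsLE E d).1 fun e he => hv 0 e (by push_cast; omega), surj_of_isRegLE F hF⟩

end Groth.Agent.RegGlobal
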