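import Groth.Agent.RegTilde.SpanSect
import Groth.Agent.GrSyzMin.Minimal
import Groth.Agent.GrSyzMin.Sub

/-!
`d`-regularity of a graded module through its sheaf and its global sections.
-/

set_option autoImplicit false
set_option linter.unusedSectionVars false
set_option linter.style.haveILetI false
set_option backward.isDefEq.respectTransparency false
set_option maxHeartbeats 400000
universe u
open CategoryTheory CategoryTheory.Limits AlgebraicGeometry Opposite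
open Groth.Agent.GrSyzHilb Groth.Agent.GrSyzMin
noncomputable section
namespace Groth.Agent.RegGlobal
variable {k : Type u} [Field k] {r : ℕ}
local notation "𝒜" => CohB1.polyGrading r k
local notation "𝔖" => GrSyz.stdGr k (Fin (r + 1))
variable {M : Type u} [AddCommGroup M] [Module k M] [Module (MvPolynomial (Fin (r + 1)) k) M]
  [IsScalarTower k (MvPolynomial (Fin (r + 1)) k) M] {ℳ : ℤ → Submodule k M} [DirectSum.Decomposition ℳ]
  [SetLike.GradedSMul (GrSyz.stdGr k (Fin (r + 1))) ℳ]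

variable [Module.Finite (MvPolynomial (Fin (r + 1)) k) M] {m : ℕ} {deg : Fin m → ℤ} {c : Fin m → M}

section Pres

variable {A : Type u} [AddCommGroup A] [Module k A] [Module (MvPolynomial (Fin (r + 1)) k) A]
  [IsScalarTower k (MvPolynomial (Fin (r + 1)) k) A] {𝒦 : ℤ → Submodule k A}
  [SetLike.GradedSMul (GrSyz.stdGr k (Fin (r + 1))) 𝒦]
variable {B : Type u} [AddCommGroup B] [Module k B] [Module (MvPolynomial (Fin (r + 1)) k) B]
  [IsScalarTower k (MvPolynomial (Fin (r + 1)) k) B] {ℬ : ℤ → Submodule k B}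
  [SetLike.GradedSMul (GrSyz.stdGr k (Fin (r + 1))) ℬ]
variable {f : A →ₗ[MvPolynomial (Fin (r + 1)) k] B} {g : B →ₗ[MvPolynomial (Fin (r + 1)) k] M}
  (hf : ∀ (e : ℤ), ∀ v ∈ 𝒦 e, f v ∈ ℬ e) (hg : ∀ (e : ℤ), ∀ v ∈ ℬ e, g v ∈ ℳ e) (hgf : g ∘ₗ f = 0)

include hf hg hgf

omit [DirectSum.Decomposition ℳ] [Module.Finite (MvPolynomial (Fin (r + 1)) k) M] in
lemma mapT_comp_zero (e : ℤ) : mapT f hf e ≫ mapT g hg e = 0 := by
  rw [GrT.mapTilde_comp 𝒜 _ _ (RegTilde.shift_zero _ _ hgf e e), GrT.mapTilde_eq_zero 𝒜 _ hgf]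

/-- The sequence of sheaves of a presentation. -/
abbrev presSES (e : ℤ) : ShortComplex (CohB1.ProjSpace r k).Modules :=
  ShortComplex.mk (mapT f hf e) (mapT g hg e) (mapT_comp_zero hf hg hgf e)

omit [Module.Finite (MvPolynomial (Fin (r + 1)) k) M] in
lemma presSES_shortExact (hinj : Function.Injective f)
    (hex : ∀ i : ℕ, ∀ z ∈ ℬ (i : ℤ), g z = 0 → ∃ y ∈ 𝒦 (i : ℤ), f y = z)
    (hsur : ∀ i : ℕ, ∀ z ∈ ℳ (i : ℤ), ∃ y ∈ ℬ (i : ℤ), g y = z) (e : ℤ) :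
    (presSES hf hg hgf e).ShortExact where
  exact := GrT.exact_mapTilde 𝒜 _ _ hgf hex
    (fun i z hz x v hv hvz => RegTilde.exists_homog_ann ℳ i z hz x v hv hvz) _
  mono_f := mono_mapT f hf hinj e
  epi_g := epi_mapT g hg 0 (fun i _ => hsur i) e

omit [DirectSum.Decomposition ℳ] [Module.Finite (MvPolynomial (Fin (r + 1)) k) M] in
omit hf hgf in
lemma glob_lift (hsur : ∀ i : ℕ, ∀ z ∈ ℳ (i : ℤ), ∃ y ∈ ℬ (i : ℤ), g y = z) {d : ℕ}
    (hsec : ∀ s : Γ(Ts r ℳ (d : ℤ), ⊤), ∃ (z : M) (hz : z ∈ ℳ (d : ℤ)), glob r z hz = s) (e : ℤ) (he : e = d)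
    (s : Γ(Ts r ℳ e, ⊤)) : ∃ w, (mapT g hg e).app ⊤ w = s := by
  subst he
  obtain ⟨z, hz, rfl⟩ := hsec s
  obtain ⟨v, hv, hvz⟩ := hsur d z hz
  subst hvz
  exact ⟨glob r v hv, mapT_glob g hg v hv⟩

omit [Module.Finite (MvPolynomial (Fin (r + 1)) k) M] in
theorem step_reg (hinj : Function.Injective f)
    (hex : ∀ i : ℕ, ∀ z ∈ ℬ (i : ℤ), g z = 0 → ∃ y ∈ 𝒦 (i : ℤ), f y = z)
    (hsur : ∀ i : ℕ, ∀ z ∈ ℳ (i : ℤ), ∃ y ∈ ℬ (i : ℤ), g y = z) {d : ℕ}
    (hB : ∀ (e : ℤ) (q : ℕ), 1 ≤ q → (d : ℤ) + 1 ≤ e + q →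
      Subsingleton (Coh.HH (CohB1.ProjSpace r k) (Ts r ℬ e) q))
    (hreg : Reg r ℳ (d : ℤ))
    (hsec : ∀ s : Γ(Ts r ℳ (d : ℤ), ⊤), ∃ (z : M) (hz : z ∈ ℳ (d : ℤ)), glob r z hz = s) :
    Reg r 𝒦 ((d + 1 : ℕ) : ℤ) := by
  intro q hq hqr
  obtain ⟨p, rfl⟩ := Nat.exists_eq_add_of_le' hq
  rw [show (((d + 1 : ℕ) : ℤ) - ((p + 1 : ℕ) : ℤ)) = (d : ℤ) - p by push_cast; ring]
  refine LinRes.hh_left (presSES_shortExact hf hg hgf hinj hex hsur ((d : ℤ) - p)) p (fun x => ?_)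
    (hB _ _ (by omega) (by push_cast; omega))
  rcases Nat.eq_zero_or_pos p with rfl | hp
  · exact LinRes.h0_surj _ (fun s => glob_lift hg hsur hsec _ (by simp) s) x
  · haveI := hreg p hp (by omega)
    exact ⟨0, Subsingleton.elim _ _⟩

omit [Module.Finite (MvPolynomial (Fin (r + 1)) k) M] in
theorem step_surj (hinj : Function.Injective f)
    (hex : ∀ i : ℕ, ∀ z ∈ ℬ (i : ℤ), g z = 0 → ∃ y ∈ 𝒦 (i : ℤ), f y = z) {d : ℕ}
    (hsecB : ∀ s : Γ(Ts r ℬ ((d + 1 : ℕ) : ℤ), ⊤), ∃ (v : B) (hv : v ∈ ℬ ((d + 1 : ℕ) : ℤ)), glob r v hv = s)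
    (htors : GrLCLib.TorsLE ℳ (r + 1) (d : ℤ)) (s : Γ(Ts r 𝒦 ((d + 1 : ℕ) : ℤ), ⊤)) :
    ∃ (z : A) (hz : z ∈ 𝒦 ((d + 1 : ℕ) : ℤ)), glob r z hz = s := by
  obtain ⟨v, hv, hvs⟩ := hsecB ((mapT f hf _).app ⊤ s)
  have hg0 : g v = 0 := htors _ (by push_cast; omega) _ (hg _ v hv)
    (tors_of_glob_eq_zero _ _ (by
      rw [← mapT_glob g hg v hv, hvs]
      exact congrArg (fun φ : Ts r 𝒦 ((d + 1 : ℕ) : ℤ) ⟶ Ts r ℳ ((d + 1 : ℕ) : ℤ) => φ.app ⊤ s)
        (mapT_comp_zero hf hg hgf _)))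
  obtain ⟨y, hy, rfl⟩ := hex _ v hv hg0
  refine ⟨y, hy, GrT.pt_ext 𝒜 _ fun x => LocalizedModule.map_injective _ f hinj ?_⟩
  exact congrArg (fun t => GrT.pt 𝒜 _ t x) ((mapT_glob f hf y hy).trans hvs)

end Pres

variable (r) (c) in
/-- The relations of the generators. -/
abbrev relK : Submodule (MvPolynomial (Fin (r + 1)) k) (Fin m → MvPolynomial (Fin (r + 1)) k) :=
  LinearMap.ker (Fintype.linearCombination (MvPolynomial (Fin (r + 1)) k) c)

omit [DirectSum.Decomposition ℳ] [Module.Finite (MvPolynomial (Fin (r + 1)) k) M] in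
lemma rel_ex (i : ℕ) (z : Fin m → MvPolynomial (Fin (r + 1)) k) (hz : z ∈ vec (k := k) (n := r + 1) deg (i : ℤ))
    (h0 : Fintype.linearCombination (MvPolynomial (Fin (r + 1)) k) c z = 0) :
    ∃ y ∈ subGr (vec (k := k) (n := r + 1) deg) (relK r c) (i : ℤ), (relK r c).subtype y = z :=
  ⟨⟨z, h0⟩, hz, rfl⟩

theorem Hyp.step {d : ℕ} (h : Hyp r ℳ d) (hc : ∀ b, c b ∈ ℳ (deg b))
    (hgen : Function.Surjective (Fintype.linearCombination (MvPolynomial (Fin (r + 1)) k) c))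
    (hdeg : ∀ b, deg b ≤ d) : Hyp r (subGr (vec (k := k) (n := r + 1) deg) (relK r c)) (d + 1) := by
  have hg : ∀ (e : ℤ), ∀ v ∈ vec (k := k) (n := r + 1) deg e,
      Fintype.linearCombination (MvPolynomial (Fin (r + 1)) k) c v ∈ ℳ e := fun e v hv => lc_mem ℳ hc hv
  have hsur : ∀ i : ℕ, ∀ z ∈ ℳ (i : ℤ), ∃ y ∈ vec (k := k) (n := r + 1) deg (i : ℤ),
      Fintype.linearCombination (MvPolynomial (Fin (r + 1)) k) c y = z := fun i z hz =>
    exists_lift ℳ hc hz (show z ∈ LinearMap.range (Fintype.linearCombination (MvPolynomial (Fin (r + 1)) k) c) from hgen z)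
  have hinj := (relK (k := k) r c).injective_subtype
  have hgf := LinearMap.comp_ker_subtype (Fintype.linearCombination (MvPolynomial (Fin (r + 1)) k) c)
  have hf : ∀ (e : ℤ), ∀ v ∈ subGr (vec (k := k) (n := r + 1) deg) (relK (k := k) r c) e,
      (relK (k := k) r c).subtype v ∈ vec (k := k) (n := r + 1) deg e := fun _ _ hv => hv
  refine ⟨step_reg hf hg hgf hinj rel_ex hsur (fun e q hq he => hh_free deg e hq fun b => ?_) h.reg h.surj,
    fun e he x hx hxt => Subtype.ext (torsLE_free deg _ e he _ hx (GrLCLib.map_mem_gam (relK (k := k) r c).subtype hxt)),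
    step_surj hf hg hgf hinj rel_ex (glob_free_surjective deg fun b => ?_) h.tors⟩
  · have := hdeg b
    omega
  · have := hdeg b
    push_cast
    omega

end Groth.Agent.RegGlobal
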