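import Groth.Agent.RegTilde.Main
import Groth.Agent.RegTilde.LinRes
import Groth.Agent.S10908
import Groth.Agent.GrLCLib.QuasiReg
import Groth.Agent.GrT.FT

/-!
Global sections of the sheaves attached to a graded module over a polynomial ring.
-/

set_option autoImplicit false
set_option linter.unusedSectionVars false
set_option linter.style.haveILetI false
set_option backward.isDefEq.respectTransparency false

universe u

open CategoryTheory CategoryTheory.Limits AlgebraicGeometry Opposite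
open Groth.Agent.GrSyzHilb Groth.Agent.GrSyzMin

noncomputable section

namespace Groth.Agent.RegGlobal

attribute [local instance] Abelian.hasFiniteBiproducts

variable {k : Type u} [Field k] {r : ℕ}

local notation "𝕊" => MvPolynomial (Fin (r + 1)) k
local notation "𝒜" => CohB1.polyGrading r k
local notation "𝔖" => GrSyz.stdGr k (Fin (r + 1))

variable {M : Type u} [AddCommGroup M] [Module k M] [Module (MvPolynomial (Fin (r + 1)) k) M]
  [IsScalarTower k (MvPolynomial (Fin (r + 1)) k) M] {ℳ : ℤ → Submodule k M}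
  [SetLike.GradedSMul (GrSyz.stdGr k (Fin (r + 1))) ℳ]
variable {N : Type u} [AddCommGroup N] [Module k N] [Module (MvPolynomial (Fin (r + 1)) k) N]
  [IsScalarTower k (MvPolynomial (Fin (r + 1)) k) N] {𝒩 : ℤ → Submodule k N}
  [SetLike.GradedSMul (GrSyz.stdGr k (Fin (r + 1))) 𝒩]

/-- The pieces of non-negative degree. -/
abbrev nn {V : Type u} [AddCommGroup V] [Module k V] (𝒱 : ℤ → Submodule k V) : ℕ → Submodule k V :=
  fun n => 𝒱 (n : ℤ)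

instance nnGradedSMul : SetLike.GradedSMul 𝒜 (nn ℳ) :=
  ⟨fun {a j p m} hp hm => by
    have := SetLike.GradedSMul.smul_mem (A := 𝔖) (B := ℳ) (RegTilde.mem_std_of_poly hp) hm
    rw [vadd_eq_add, ← Nat.cast_add] at this
    exact this⟩

variable (r) (ℳ) in
/-- The sheaf `M(c)~`. -/
abbrev Ts (c : ℤ) : (CohB1.ProjSpace r k).Modules := GrTilde.tilde 𝒜 (nn ℳ) c

variable (r) in
/-- The section of `M(n)~` of an element of degree `n`. -/
def glob {n : ℕ} (z : M) (hz : z ∈ ℳ (n : ℤ)) : Γ(Ts r ℳ (n : ℤ), ⊤) :=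
  GrTilde.globalOf 𝒜 (nn ℳ) (i := n) ⟨z, hz⟩

lemma pt_glob {n : ℕ} (z : M) (hz : z ∈ ℳ (n : ℤ)) (y : (⊤ : (CohB1.ProjSpace r k).Opens)) :
    GrT.pt 𝒜 (nn ℳ) (glob r z hz) y =
      GrT.fr 𝒜 y.1 z 1 (fun h => y.1.isPrime.ne_top ((Ideal.eq_top_iff_one _).mpr h)) := rfl

lemma glob_add {n : ℕ} (z w : M) (hz : z ∈ ℳ (n : ℤ)) (hw : w ∈ ℳ (n : ℤ)) :
    glob r (z + w) (add_mem hz hw) = glob r z hz + glob r w hw :=
  GrT.pt_ext 𝒜 _ fun y => by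
    rw [GrT.pt_add, pt_glob, pt_glob, pt_glob, LocalizedModule.mk_add_mk]
    exact GrT.fr_congr 𝒜 y.1 _ _ (by simp [Submonoid.smul_def])

lemma glob_zero {n : ℕ} : glob r (0 : M) (zero_mem (ℳ (n : ℤ))) = 0 :=
  GrT.pt_ext 𝒜 _ fun y => by rw [pt_glob, GrT.fr_zero]; rfl

lemma tors_of_glob_eq_zero [DirectSum.Decomposition ℳ] {n : ℕ} (z : M) (hz : z ∈ ℳ (n : ℤ)) (h : glob r z hz = 0) :
    z ∈ GrLCLib.tors k (r + 1) M := by
  let J : Ideal 𝕊 := (Submodule.span 𝕊 {z}).annihilator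
  have hJ : ∀ x : ProjectiveSpectrum 𝒜, ∃ v, v ∉ x.asHomogeneousIdeal ∧ v • z = 0 := fun x => by
    have h1 := congrArg (fun s => GrT.pt 𝒜 (nn ℳ) s (⟨x, Set.mem_univ x⟩ : (⊤ : (CohB1.ProjSpace r k).Opens))) h
    rw [pt_glob] at h1
    exact (GrT.fr_eq_zero_iff 𝒜 x _).1 (h1.trans rfl)
  rw [GrLCLib.tors, GrLCLib.mem_gam_irrel_iff]
  intro j _
  by_contra hcon
  push Not at hcon
  -- a homogeneous prime containing the annihilator and avoiding `X j`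
  obtain ⟨P, hP, hPJ, hPX⟩ : ∃ P : Ideal 𝕊, (Ideal.span {v | (∃ d, v ∈ 𝒜 d) ∧ v • z = 0} ≤ P) ∧ P.IsPrime ∧
      (MvPolynomial.X j : 𝕊) ∉ P := by
    have hmem : (MvPolynomial.X j : 𝕊) ∉ (Ideal.span {v : 𝕊 | (∃ d, v ∈ 𝒜 d) ∧ v • z = 0}).radical := by
      rintro ⟨N, hN⟩
      refine hcon N ?_
      have hle : Ideal.span {v : 𝕊 | (∃ d, v ∈ 𝒜 d) ∧ v • z = 0} ≤ J :=
        Ideal.span_le.2 fun v hv => (Submodule.mem_annihilator_span_singleton _ _).2 hv.2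
      exact (Submodule.mem_annihilator_span_singleton _ _).1 (hle hN)
    rw [Ideal.radical_eq_sInf, Submodule.mem_sInf] at hmem
    push Not at hmem
    obtain ⟨P, ⟨h1, h2⟩, h3⟩ := hmem
    exact ⟨P, h1, h2, h3⟩
  let Q : HomogeneousIdeal 𝒜 := P.homogeneousCore 𝒜
  have hQX : (MvPolynomial.X j : 𝕊) ∉ Q := fun h => hPX (P.toIdeal_homogeneousCore_le 𝒜 h)
  haveI := hPJ
  have hQp : Q.toIdeal.IsPrime := hPJ.homogeneousCore
  let x : ProjectiveSpectrum 𝒜 := ⟨Q, hQp, fun hle => hQX (hle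
    (HomogeneousIdeal.mem_irrelevant_of_mem 𝒜 one_pos (MvPolynomial.isHomogeneous_X k j)))⟩
  obtain ⟨v, hvx, hvz⟩ := hJ x
  obtain ⟨d, v', hv'd, hv'x, hv'z⟩ := RegTilde.exists_homog_ann ℳ n z hz x v hvx hvz
  exact hv'x (Ideal.mem_homogeneousCore_of_homogeneous_of_mem ⟨d, hv'd⟩ (hP (Ideal.subset_span ⟨⟨d, hv'd⟩, hv'z⟩)))

lemma shift_hom (f : M →ₗ[𝕊] N) (hf : ∀ (e : ℤ), ∀ m ∈ ℳ e, f m ∈ 𝒩 e) (c : ℤ) :
    GrT.Shift (nn ℳ) (nn 𝒩) f c c :=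
  fun i _ hi _ hm => Or.inr ⟨i, hi, hf _ _ hm⟩

/-- The map of sheaves of a graded map. -/
abbrev mapT (f : M →ₗ[𝕊] N) (hf : ∀ (e : ℤ), ∀ m ∈ ℳ e, f m ∈ 𝒩 e) (c : ℤ) : Ts r ℳ c ⟶ Ts r 𝒩 c :=
  GrT.mapTilde 𝒜 (shift_hom f hf c)

lemma mapT_glob (f : M →ₗ[𝕊] N) (hf : ∀ (e : ℤ), ∀ m ∈ ℳ e, f m ∈ 𝒩 e) {n : ℕ} (z : M) (hz : z ∈ ℳ (n : ℤ)) :
    (mapT f hf (n : ℤ)).app ⊤ (glob r z hz) = glob r (f z) (hf _ _ hz) :=
  GrT.pt_ext 𝒜 _ fun y => by rw [GrT.pt_mapTilde, pt_glob, pt_glob, GrT.mapLoc_fr]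

lemma mono_mapT (f : M →ₗ[𝕊] N) (hf : ∀ (e : ℤ), ∀ m ∈ ℳ e, f m ∈ 𝒩 e) (hinj : Function.Injective f) (c : ℤ) :
    Mono (mapT f hf c) := by
  have hloc : ∀ x : ProjectiveSpectrum 𝒜, Function.Injective (GrT.mapLoc 𝒜 f x) := fun x =>
    LocalizedModule.map_injective _ f hinj
  refine ⟨fun {Z} a b e => Scheme.Modules.hom_ext _ _ fun U => ?_⟩
  ext z
  refine GrT.pt_ext 𝒜 _ fun y => hloc y.1 ?_
  exact congrArg (fun q : Z ⟶ Ts r 𝒩 c => GrT.pt 𝒜 (nn 𝒩) (q.app U z) y) e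

/-- Surjectivity in large degrees gives an epimorphism. -/
lemma epi_mapT (f : M →ₗ[𝕊] N) (hf : ∀ (e : ℤ), ∀ m ∈ ℳ e, f m ∈ 𝒩 e) (d : ℕ)
    (hsur : ∀ i : ℕ, d ≤ i → ∀ z ∈ 𝒩 (i : ℤ), ∃ y ∈ ℳ (i : ℤ), f y = z) (c : ℤ) : Epi (mapT f hf c) := by
  refine InvGen.epi_of_locally _ fun U t x hx => ?_
  obtain ⟨e, i, a, b, he, hae, hbi, hn, hax, hle, w⟩ := GrT.exists_frac_nhd 𝒜 (nn 𝒩) t ⟨x, hx⟩
  obtain ⟨l, hl⟩ := CohFinite.cov_X r k x
  have hld : (MvPolynomial.X l.down : 𝕊) ^ d ∈ 𝒜 d := by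
    simpa using SetLike.pow_mem_graded d (show (MvPolynomial.X l.down : 𝕊) ∈ 𝒜 1 from MvPolynomial.isHomogeneous_X k l.down)
  have hlx : (MvPolynomial.X l.down : 𝕊) ^ d ∉ x.asHomogeneousIdeal := fun h => hl (x.isPrime.mem_of_pow_mem _ h)
  obtain ⟨y, hy, hfy⟩ := hsur (d + i) (Nat.le_add_right _ _) ((MvPolynomial.X l.down : 𝕊) ^ d • b)
    (GrT.smul_mem_graded 𝒜 (nn 𝒩) hld hbi)
  let g := (MvPolynomial.X l.down : 𝕊) ^ d * a
  have hg : g ∈ 𝒜 (d + e) := SetLike.mul_mem_graded hld hae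
  have hV : ProjectiveSpectrum.basicOpen 𝒜 g ≤ U := fun z hz => hle
    ((ProjectiveSpectrum.mem_basicOpen 𝒜 a z).mpr (GrT.right_not_mem 𝒜 ((ProjectiveSpectrum.mem_basicOpen 𝒜 _ z).mp hz)))
  refine ⟨ProjectiveSpectrum.basicOpen 𝒜 g, hV,
    (ProjectiveSpectrum.mem_basicOpen 𝒜 g x).mpr (GrT.not_mem_mul 𝒜 hlx hax),
    GrT.fracSect 𝒜 (nn ℳ) c (i := d + i) hy hg (by push_cast; omega) _
      fun z => (ProjectiveSpectrum.mem_basicOpen 𝒜 g z.1).mp z.2, ?_⟩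
  refine GrT.pt_ext 𝒜 _ fun z => ?_
  rw [GrT.pt_mapTilde]
  refine (GrT.mapLoc_fr 𝒜 f z.1 y _).trans ?_
  refine Eq.trans ?_ (w ⟨z.1, hV z.2⟩
    (GrT.right_not_mem 𝒜 ((ProjectiveSpectrum.mem_basicOpen 𝒜 _ z.1).mp z.2))).symm
  rw [hfy]
  exact GrT.fr_congr 𝒜 z.1 _ _ (by rw [smul_smul, mul_comm])

lemma sum_app_of_split {X : Scheme.{u}} {ι : Type} [Fintype ι] {A : X.Modules} {B : ι → X.Modules}
    (p : ∀ b, A ⟶ B b) (i : ∀ b, B b ⟶ A) (h : ∑ b, p b ≫ i b = 𝟙 A) (z : Γ(A, ⊤)) :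
    z = ∑ b, (i b).app ⊤ ((p b).app ⊤ z) := by
  let ev : (A ⟶ A) →+ Γ(A, ⊤) := AddMonoidHom.mk' (fun q => q.app ⊤ z) fun _ _ => rfl
  exact ((congrArg ev h).symm).trans (map_sum ev _ Finset.univ)

section Free

variable {m : ℕ} (deg : Fin m → ℤ)

lemma shift_proj (c : ℤ) (b : Fin m) :
    GrT.Shift (nn (vec (k := k) (n := r + 1) deg)) 𝒜 (LinearMap.proj b : (Fin m → 𝕊) →ₗ[𝕊] 𝕊) c (c - deg b) := by
  intro i j h v hv
  have hb : v b ∈ 𝔖 ((i : ℤ) - deg b) := (mem_vec deg).1 hv b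
  by_cases hneg : (i : ℤ) - deg b < 0
  · exact Or.inl (eq_zero_of_deg_neg hneg hb)
  · refine Or.inr ⟨((i : ℤ) - deg b).toNat, by omega, RegTilde.mem_poly_of_std ?_⟩
    rwa [Int.toNat_of_nonneg (by omega)]

lemma single_mem_vec {e : ℤ} {p : 𝕊} (b : Fin m) (hp : p ∈ 𝔖 (e - deg b)) :
    Pi.single b p ∈ vec (k := k) (n := r + 1) deg e := by
  refine (mem_vec deg).2 fun b' => ?_
  by_cases hb : b' = b
  · subst hb; simpa using hp
  · simp [Pi.single_eq_of_ne hb]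

lemma shift_single {c : ℤ} (hc : 0 ≤ c) (b : Fin m) :
    GrT.Shift 𝒜 (nn (vec (k := k) (n := r + 1) deg))
      (LinearMap.single 𝕊 (fun _ : Fin m => 𝕊) b) (c - deg b) c := by
  intro i j h v hv
  refine Or.inr ⟨((j : ℤ) + c).toNat, by omega, ?_⟩
  show Pi.single b v ∈ vec deg _
  refine single_mem_vec deg b ?_
  rw [show ((((j : ℤ) + c).toNat : ℤ) - deg b) = (i : ℤ) by omega]
  exact RegTilde.mem_std_of_poly hv

lemma split_free {c : ℤ} (hc : 0 ≤ c) :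
    ∑ b, GrT.mapTilde 𝒜 (shift_proj deg c b) ≫ GrT.mapTilde 𝒜 (shift_single deg hc b) =
      𝟙 (Ts r (vec (k := k) (n := r + 1) deg) c) := by
  classical
  have hid : GrT.Shift (nn (vec (k := k) (n := r + 1) deg)) (nn (vec (k := k) (n := r + 1) deg))
      (LinearMap.id : (Fin m → 𝕊) →ₗ[𝕊] _) c c := fun a e h v hv => Or.inr ⟨a, h, hv⟩
  have hc' : ∀ b : Fin m, GrT.Shift (nn (vec (k := k) (n := r + 1) deg)) (nn (vec (k := k) (n := r + 1) deg))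
      ((LinearMap.single 𝕊 (fun _ : Fin m => 𝕊) b) ∘ₗ LinearMap.proj b) c c := fun b a e h v hv =>
    Or.inr ⟨a, h, single_mem_vec deg b ((mem_vec deg).1 hv b)⟩
  rw [← GrT.mapTilde_id 𝒜 hid, GrT.mapTilde_sum 𝒜 Finset.univ hid _ hc']
  · exact Finset.sum_congr rfl fun b _ => GrT.mapTilde_comp 𝒜 _ _ (hc' b)
  · exact LinearMap.ext fun v => by simp [LinearMap.sum_apply, Finset.univ_sum_single]

/-- Forms are all global sections of `O(a)`. -/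
lemma exists_form {a : ℤ} (ha : 0 ≤ a) (t : Γ(GrTilde.tilde 𝒜 𝒜 a, ⊤)) :
    ∃ p ∈ 𝔖 a, ∀ y : (⊤ : (CohB1.ProjSpace r k).Opens), GrT.pt 𝒜 𝒜 t y =
      GrT.fr 𝒜 y.1 p 1 (fun h => y.1.isPrime.ne_top ((Ideal.eq_top_iff_one _).mpr h)) := by
  obtain ⟨j, rfl⟩ := Int.eq_ofNat_of_zero_le ha
  have hgen : ∀ i : ℕ, 𝒜 1 * 𝒜 i = 𝒜 (i + 1) := fun i => by
    show MvPolynomial.homogeneousSubmodule (Fin (r + 1)) k 1 * MvPolynomial.homogeneousSubmodule (Fin (r + 1)) k i =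
      MvPolynomial.homogeneousSubmodule (Fin (r + 1)) k (i + 1)
    have key := fun m : ℕ => MvPolynomial.homogeneousSubmodule_one_pow (σ := Fin (r + 1)) (R := k) m
    rw [← key i, ← key (i + 1), pow_succ']
  have h1 : 𝒜 1 ≠ ⊥ := fun h => MvPolynomial.X_ne_zero (R := k) (0 : Fin (r + 1))
    ((Submodule.eq_bot_iff _).1 h _ (MvPolynomial.isHomogeneous_X k 0))
  obtain ⟨p, hp⟩ := (Groth.Agent.S10908.result 𝒜 hgen h1 UniqueFactorizationMonoid.instIsIntegrallyClosed j).2 t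
  refine ⟨p.1, RegTilde.mem_std_of_poly p.2, fun y => ?_⟩
  rw [← hp]
  rfl

/-- Elements are all sections in degrees above those of the basis. -/
lemma glob_free_surjective {n : ℕ} (hn : ∀ b, deg b ≤ n) (s : Γ(Ts r (vec (k := k) (n := r + 1) deg) (n : ℤ), ⊤)) :
    ∃ (v : Fin m → 𝕊) (hv : v ∈ vec deg (n : ℤ)), glob r v hv = s := by
  have h := fun b => exists_form (r := r) (k := k) (show 0 ≤ (n : ℤ) - deg b by have := hn b; omega)
    ((GrT.mapTilde 𝒜 (shift_proj deg (n : ℤ) b)).app ⊤ s)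
  choose v hv hvs using h
  refine ⟨v, (mem_vec deg).2 hv, ?_⟩
  have hsum := sum_app_of_split (X := CohB1.ProjSpace r k) (fun b => GrT.mapTilde 𝒜 (shift_proj deg (n : ℤ) b))
    (fun b => GrT.mapTilde 𝒜 (shift_single deg (Int.natCast_nonneg n) b)) (split_free deg (Int.natCast_nonneg n))
  rw [hsum (glob r v _), hsum s]
  refine Finset.sum_congr rfl fun b _ => congrArg _ (GrT.pt_ext 𝒜 _ fun y => ?_)
  rw [hvs b y, GrT.pt_mapTilde, pt_glob, GrT.mapLoc_fr]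
  rfl

lemma hh_free (c : ℤ) {q : ℕ} (hq : 1 ≤ q) (hc : ∀ b, deg b ≤ c + q) :
    Subsingleton (Coh.HH (CohB1.ProjSpace r k) (Ts r (vec (k := k) (n := r + 1) deg) c) q) := by
  obtain ⟨e⟩ := GrT.nonempty_tensor_iso (a := 0) (b := c) (c := c) (nn (vec (k := k) (n := r + 1) deg))
    (CohFinite.cov_one r k) (zero_add c)
  refine CohQC.hh_subsingleton_of_iso e q (CohFinite.subsingleton_of_split _
    (fun b => CohB1.tensorMod (GrTilde.tilde 𝒜 𝒜 (0 - deg b)) (GrTilde.tilde 𝒜 𝒜 c))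
    (fun b => CohFinite.tmap (GrT.mapTilde 𝒜 (shift_single deg le_rfl b)) _)
    (fun b => CohFinite.tmap (GrT.mapTilde 𝒜 (shift_proj deg 0 b)) _) ?_ q fun b => ?_)
  · simp only [← CohFinite.tmap_comp]
    exact (CohFinite.tmap_sum _ _ _).symm.trans
      ((congrArg (fun ψ => CohFinite.tmap ψ _) (split_free deg le_rfl)).trans (CohFinite.tmap_id _ _))
  · obtain ⟨e'⟩ := GrT.nonempty_tensor_iso (a := 0 - deg b) (b := c) (c := 0 - deg b + c) 𝒜 (CohFinite.cov_one r k) rfl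
    refine CohQC.hh_subsingleton_of_iso e'.symm _ ?_
    rw [← GrT.twistPS_eq]
    refine ProjCech.twist_vanish r _ q (by omega) ?_
    rintro ⟨rfl, h⟩
    have := hc b
    omega

lemma torsLE_free (d : ℤ) : GrLCLib.TorsLE (vec (k := k) (n := r + 1) deg) (r + 1) d := by
  intro e _ v _ hv
  rw [GrLCLib.tors, GrLCLib.mem_gam_irrel_iff] at hv
  obtain ⟨N, hN⟩ := hv 0 (Nat.succ_pos r)
  funext b
  have := congrFun hN b
  simpa [MvPolynomial.X_ne_zero] using this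

end Free

section Mult

omit [SetLike.GradedSMul 𝔖 ℳ] [IsScalarTower k 𝕊 M] in
lemma pureSums_induction {X : Scheme.{u}} {A B : X.Modules} {P : Γ(CohB1.tensorMod A B, ⊤) → Prop}
    {z : Γ(CohB1.tensorMod A B, ⊤)} (hz : z ∈ Mumford.pureSums A B) (h0 : P 0)
    (htm : ∀ a b, P (TMul.tm a b)) (hadd : ∀ u v, P u → P v → P (u + v)) : P z := by
  obtain ⟨p, rfl⟩ := hz
  induction p using TensorProduct.induction_on with
  | zero => rw [map_zero]; exact h0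
  | tmul a b => exact htm a b
  | add u v hu hv => rw [map_add]; exact hadd _ _ hu hv

variable [DirectSum.Decomposition ℳ] [Module.Finite (MvPolynomial (Fin (r + 1)) k) M]

lemma isCoh_Ts (c : ℤ) : Coh.IsCoh (Ts r ℳ c) := by
  obtain ⟨F, -⟩ := GrSyzMin.exists_minimal (n := r + 1) ℳ
  have hbi : Coh.IsCoh (⨁ RegTilde.Tw F 0) :=
    Devissage.isCoh_biproduct (RegTilde.Tw F 0) fun b => CohFinite.isCoh_twist r k _
  haveI : Epi (biproduct.desc (RegTilde.splitIncl F 0)) := by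
    haveI : IsSplitEpi (biproduct.desc (RegTilde.splitIncl F 0)) := IsSplitEpi.mk'
      ⟨biproduct.lift (RegTilde.splitProj F 0), by rw [biproduct.lift_desc]; exact RegTilde.split_total F 0⟩
    infer_instance
  have hF : Coh.IsCoh (RegTilde.Ft F 0) :=
    QC.isCoh_of_epi hbi (RegTilde.isQCoh_Ft F 0) (biproduct.desc (RegTilde.splitIncl F 0))
  have hq : Coh.IsQCoh (Ts r ℳ 0) := QC.isQCoh_of_iso
    ((cokernelIsCokernel (RegTilde.dT F 0)).coconePointUniqueUpToIso (RegTilde.exact_aug F).gIsCokernel)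
    (QC.isQCoh_cokernel (RegTilde.isQCoh_Ft F _) (RegTilde.isQCoh_Ft F _) _)
  have h0 : Coh.IsCoh (Ts r ℳ 0) := QC.isCoh_of_epi hF hq (RegTilde.augT F)
  obtain ⟨e⟩ := GrT.nonempty_tensor_iso (a := 0) (b := c) (c := c) (nn ℳ) (CohFinite.cov_one r k) (zero_add c)
  have hinv := CohFinite.isInvertible_twist r k c
  rw [GrT.twistPS_eq] at hinv
  exact QC.isCoh_of_epi (CohFinite.isCoh_tensor h0 hinv) (QC.isQCoh_of_iso e (CohFinite.isCoh_tensor h0 hinv).1) e.hom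

variable (r) (ℳ) in
/-- Vanishing of the higher cohomology on the diagonal `d`. -/
def Reg (d : ℤ) : Prop :=
  ∀ q : ℕ, 1 ≤ q → q ≤ r → Subsingleton (Coh.HH (CohB1.ProjSpace r k) (Ts r ℳ (d - q)) q)

omit [DirectSum.Decomposition ℳ] [Module.Finite (MvPolynomial (Fin (r + 1)) k) M] in
lemma reg_iff (d : ℤ) : Reg r ℳ d ↔ Curv2.IsMRegular k r (Ts r ℳ 0) d := by
  refine forall_congr' fun q => forall₂_congr fun _ _ => ?_
  obtain ⟨e⟩ := GrT.nonempty_tensor_iso (a := 0) (b := d - q) (c := d - q) (nn ℳ) (CohFinite.cov_one r k) (zero_add _)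
  rw [GrT.twistPS_eq]
  exact ⟨CohQC.hh_subsingleton_of_iso e.symm q, CohQC.hh_subsingleton_of_iso e q⟩

end Mult

end Groth.Agent.RegGlobal
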