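import Groth.Agent.RegTilde.GlobalSect
import Groth.Agent.GrSyzMin.Minimal
import Groth.Agent.GrSyzMin.Sub

/-!
Sections in high degrees are spanned from a regular degree.
-/

set_option autoImplicit false
set_option linter.unusedSectionVars false
set_option linter.style.haveILetI false
set_option backward.isDefEq.respectTransparency false
universe u
open CategoryTheory CategoryTheory.Limits AlgebraicGeometry Opposite
open Groth.Agent.GrSyzHilb Groth.Agent.GrSyzMin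
noncomputable section
namespace Groth.Agent.RegGlobal
variable {k : Type u} [Field k] {r : ℕ}
local notation "𝒜" => CohB1.polyGrading r k
local notation "𝔖" => GrSyz.stdGr k (Fin (r + 1))
variable {M : Type u} [AddCommGroup M] [Module k M] [Module (MvPolynomial (Fin (r + 1)) k) M]
  [IsScalarTower k (MvPolynomial (Fin (r + 1)) k) M] {ℳ : ℤ → Submodule k M} [DirectSum.Decomposition ℳ]
  [SetLike.GradedSMul (GrSyz.stdGr k (Fin (r + 1))) ℳ]

set_option maxHeartbeats 400000 in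
lemma reg_shift {d : ℤ} (hreg : Reg r ℳ d) : Curv2.IsMRegular k r (Ts r ℳ d) 0 := fun q hq hqr => by
  obtain ⟨e'⟩ := GrT.nonempty_tensor_iso (a := d) (b := (0 : ℤ) - q) (c := d - q) (nn ℳ) (CohFinite.cov_one r k)
    (by ring)
  rw [GrT.twistPS_eq]
  exact CohQC.hh_subsingleton_of_iso e'.symm q (hreg q hq hqr)

set_option maxHeartbeats 400000 in
lemma mul_glob {d n : ℕ} {e : ℤ} (he : 0 ≤ e) (hde : (d : ℤ) + e = (n : ℤ)) (z : M) (hz : z ∈ ℳ (d : ℤ))
    (a : Γ(GrTilde.tilde 𝒜 𝒜 e, ⊤)) :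
    ∃ (f : MvPolynomial (Fin (r + 1)) k) (hm : f • z ∈ ℳ (n : ℤ)),
      (GrT.tensorHom (nn ℳ) hde).app ⊤ (TMul.tm (glob r z hz) a) = glob r (f • z) hm := by
  obtain ⟨f, hf, hfa⟩ := exists_form (r := r) (k := k) he a
  have hm : f • z ∈ ℳ (n : ℤ) := by
    have := SetLike.GradedSMul.smul_mem (A := 𝔖) (B := ℳ) hf hz
    rwa [vadd_eq_add, add_comm, hde] at this
  refine ⟨f, hm, (GrT.tensorHom_tm (nn ℳ) hde _ _).trans (GrT.pt_ext 𝒜 _ fun y => ?_)⟩
  rw [GrT.pt_mulSect, hfa y, pt_glob, pt_glob]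
  refine (GrT.loc_smul_fr f z _ _).trans ?_
  exact GrT.fr_congr 𝒜 y.1 _ _ (by rw [one_mul])

variable [Module.Finite (MvPolynomial (Fin (r + 1)) k) M]

lemma app_surjective_of_isIso {X : Scheme.{u}} {A B : X.Modules} (f : A ⟶ B) (hf : IsIso f) :
    Function.Surjective (f.app (⊤ : X.Opens)) :=
  fun s => ⟨(inv f).app ⊤ s, congrArg (fun q : B ⟶ B => q.app ⊤ s) (IsIso.inv_hom_id f)⟩

lemma mem_pureSums (G : (CohB1.ProjSpace r k).Modules) (hG : Coh.IsCoh G) (hreg : Curv2.IsMRegular k r G 0) (e : ℕ) :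
    ∀ w : Γ(CohB1.tensorMod G (GrTilde.tilde 𝒜 𝒜 (e : ℤ)), ⊤),
      w ∈ Mumford.pureSums G (GrTilde.tilde 𝒜 𝒜 (e : ℤ)) := by
  rw [← GrT.twistPS_eq]
  exact Mumford.surjective_all G hG hreg e

set_option maxHeartbeats 400000 in
/-- Sections in degrees above a surjective degree are spanned from that degree. -/
theorem exists_span_section {d n : ℕ} (hdn : d ≤ n) (hreg : Reg r ℳ d)
    (hsur : ∀ s : Γ(Ts r ℳ (d : ℤ), ⊤), ∃ (z : M) (hz : z ∈ ℳ (d : ℤ)), glob r z hz = s)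
    (s : Γ(Ts r ℳ (n : ℤ), ⊤)) :
    ∃ (z : M) (hz : z ∈ ℳ (n : ℤ)),
      z ∈ Submodule.span (MvPolynomial (Fin (r + 1)) k) (ℳ (d : ℤ) : Set M) ∧ glob r z hz = s := by
  obtain ⟨e, rfl⟩ := Nat.le.dest hdn
  have hde : (d : ℤ) + (e : ℤ) = ((d + e : ℕ) : ℤ) := by push_cast; rfl
  have hI := GrT.isIso_tensorHom (nn ℳ) (CohFinite.cov_one r k) hde
  obtain ⟨w, rfl⟩ := app_surjective_of_isIso _ hI s
  have hw := mem_pureSums (Ts r ℳ (d : ℤ)) (isCoh_Ts _) (reg_shift hreg) e w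
  refine pureSums_induction (P := fun w => ∃ (z : M) (hz : z ∈ ℳ ((d + e : ℕ) : ℤ)),
    z ∈ Submodule.span (MvPolynomial (Fin (r + 1)) k) (ℳ (d : ℤ) : Set M) ∧
      glob r z hz = (GrT.tensorHom (nn ℳ) hde).app ⊤ w)
    hw ?_ (fun g a => ?_) ?_
  · exact ⟨0, zero_mem _, zero_mem _, by rw [glob_zero, map_zero]⟩
  · obtain ⟨z, hz, rfl⟩ := hsur g
    obtain ⟨f, hm, hf⟩ := mul_glob (Int.natCast_nonneg e) hde z hz a
    exact ⟨f • z, hm, Submodule.smul_mem _ f (Submodule.subset_span hz), hf.symm⟩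
  · rintro u v ⟨z, hz, hzs, hze⟩ ⟨z', hz', hzs', hze'⟩
    exact ⟨z + z', add_mem hz hz', add_mem hzs hzs', by rw [glob_add _ _ hz hz', hze, hze', map_add]⟩

variable (r) (ℳ) in
/-- The hypothesis on sheaf, torsion and sections at `d`. -/
structure Hyp (d : ℕ) : Prop where
  reg : Reg r ℳ (d : ℤ)
  tors : GrLCLib.TorsLE ℳ (r + 1) (d : ℤ)
  surj : ∀ s : Γ(Ts r ℳ (d : ℤ), ⊤), ∃ (z : M) (hz : z ∈ ℳ (d : ℤ)), glob r z hz = s

lemma Hyp.mem_span {d n : ℕ} (h : Hyp r ℳ d) (hdn : d ≤ n) {z : M} (hz : z ∈ ℳ (n : ℤ)) :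
    z ∈ Submodule.span (MvPolynomial (Fin (r + 1)) k) (ℳ (d : ℤ) : Set M) := by
  rcases hdn.eq_or_lt with rfl | hlt
  · exact Submodule.subset_span hz
  · obtain ⟨w, hw, hws, hwe⟩ := exists_span_section hdn h.reg h.surj (glob r z hz)
    have h0 : glob r (w + -z) (add_mem hw (neg_mem hz)) = 0 := by
      rw [glob_add _ _ hw (neg_mem hz), hwe, ← glob_add _ _ hz (neg_mem hz)]
      simp only [add_neg_cancel]
      exact glob_zero
    have h1 := h.tors _ (by exact_mod_cast hlt) _ (add_mem hw (neg_mem hz)) (tors_of_glob_eq_zero _ _ h0)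
    rwa [← add_neg_eq_zero.1 h1]

variable {m : ℕ} {deg : Fin m → ℤ} {c : Fin m → M}

lemma Hyp.deg_le {d : ℕ} (h : Hyp r ℳ d) (hc : ∀ b, c b ∈ ℳ (deg b))
    (hgen : Function.Surjective (Fintype.linearCombination (MvPolynomial (Fin (r + 1)) k) c))
    (hirr : Irred (k := k) (n := r + 1) c) (b : Fin m) : deg b ≤ d := by
  by_contra hb
  push Not at hb
  obtain ⟨n, hn⟩ := Int.eq_ofNat_of_zero_le (show 0 ≤ deg b by omega)
  have hmem := h.mem_span (n := n) (by omega) (hn ▸ hc b : c b ∈ ℳ (n : ℤ))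
  refine hirr b ((Submodule.span_le.2 fun z hz => ?_) hmem)
  obtain ⟨v, hv, rfl⟩ := exists_lift ℳ hc hz (LinearMap.range_eq_top.2 hgen ▸ Submodule.mem_top)
  have hl := lc_ne (c := c) (b := b) (v := v)
  rwa [eq_zero_of_deg_neg (by omega) ((mem_vec deg).1 hv b), zero_smul, sub_zero] at hl

end Groth.Agent.RegGlobal
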